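import Cfsg.Agent.SUThreeRegUnip.Large

/-!
Three conjugate regular unipotent elements generating `SU_3(q)`, `q ≥ 3`.
-/

set_option autoImplicit false

namespace Cfsg.Agent.SUThreeRegUnip

open Matrix Cfsg.Agent.Unitary

variable {F : Type*} [Field F] [Fintype F] {q : ℕ} (hF : Fintype.card F = q ^ 2)
variable (B : Fr F 1 q) {H : Subgroup (SU (2 * 1 + 1) F q)}

include hF

theorem mul_conj_fixed (x : F) : (x * x ^ q) ^ q = x * x ^ q := by
  rw [mul_pow, pow_q_pow_q hF, mul_comm]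

theorem levi_one : B.levi hF = 1 := rfl

theorem reg_one (a β : F) : B.reg hF a β = B.top hF a β := by rw [Fr.reg, levi_one, one_mul]

theorem decomp (x : Fin (2 * 1 + 1) → F) :
    ∃ α σ r : F, x = α • B.ee 0 + σ • B.ff 0 + r • B.gg := by
  obtain ⟨α, σ, h⟩ := B.split hF (show 0 < 1 by omega) (x := x) (fun i hi => by simp [tail] at hi)
  refine ⟨α, σ, (x - α • B.ee 0 - σ • B.ff 0) (Fin.last (2 * 1)), ?_⟩
  rw [← tail_last B h]; abel

/-- elements fixing the line of `f` -/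
theorem gg_image {d : SU (2 * 1 + 1) F q} {A : F} (hd : d • B.ff 0 = A • B.ff 0) :
    A ≠ 0 ∧ ∃ C : F, d • B.gg = (A ^ q / A) • B.gg + C • B.ff 0 := by
  classical
  have hθ := B.hθ
  have hef : herm q (B.ee 0) (B.ff 0) = -B.θ := B.ef_self hF (by omega)
  have hA : A ≠ 0 := by
    intro h
    have := herm_smul_SU d (B.ee 0) (B.ff 0)
    rw [hd, h, zero_smul, herm_zero_right hF, hef] at this
    exact hθ (neg_eq_zero.1 this.symm)
  have hAq : A ^ q ≠ 0 := mt (pow_q_eq_zero_iff hF).1 hA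
  refine ⟨hA, ?_⟩
  obtain ⟨α, σ, r, hg⟩ := decomp hF B (d • B.gg)
  have hα : α = 0 := by
    have h := herm_smul_SU d B.gg (B.ff 0)
    rw [hd, hg, herm_smul_right hF, herm_add_left, herm_add_left, herm_smul_left, herm_smul_left,
      herm_smul_left, B.ff_self, B.h_gf hF, hef] at h
    simpa [hAq, hθ] using h
  rw [hα, zero_smul, zero_add] at hg
  obtain ⟨D, G, E, he⟩ := decomp hF B (d • B.ee 0)
  have hD : D * A ^ q = 1 := by
    have h := herm_smul_SU d (B.ee 0) (B.ff 0)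
    rw [hd, he, herm_smul_right hF, herm_add_left, herm_add_left, herm_smul_left, herm_smul_left,
      herm_smul_left, B.ff_self, B.h_gf hF, hef] at h
    have h' : (D * A ^ q - 1) * -B.θ = 0 := by linear_combination h
    exact sub_eq_zero.1 ((mul_eq_zero.1 h').resolve_right (neg_ne_zero.2 hθ))
  set P' : Matrix (Fin 3) (Fin 3) F :=
    Matrix.of fun i j => ![B.ff 0, B.gg, B.ee 0] j i with hP'
  set M : Matrix (Fin 3) (Fin 3) F :=
    (d : Matrix.SpecialLinearGroup (Fin (2 * 1 + 1)) F).1 with hM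
  set T : Matrix (Fin 3) (Fin 3) F := !![A, σ, G; 0, r, E; 0, 0, D] with hT
  have hunit : IsUnit P' := by
    refine Matrix.mulVec_surjective_iff_isUnit.1 fun x => ?_
    obtain ⟨x1, x2, x3, hx⟩ := decomp hF B x
    refine ⟨![x2, x3, x1], funext fun i => ?_⟩
    rw [hx]
    simp [hP', Matrix.mulVec, dotProduct, Fin.sum_univ_three]
    ring
  have hdP : P'.det ≠ 0 := ((Matrix.isUnit_iff_isUnit_det P').1 hunit).ne_zero
  have hMP : M * P' = P' * T := by
    ext l j
    have hl : (M * P') l j = (d • (![B.ff 0, B.gg, B.ee 0] j : Fin (2 * 1 + 1) → F)) l := rfl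
    rw [hl]
    fin_cases j
    · show (d • B.ff 0) l = _
      rw [hd]; simp [hP', hT, Matrix.mul_apply, Fin.sum_univ_three]; ring
    · show (d • B.gg) l = _
      rw [hg]; simp [hP', hT, Matrix.mul_apply, Fin.sum_univ_three]; ring
    · show (d • B.ee 0) l = _
      rw [he]; simp [hP', hT, Matrix.mul_apply, Fin.sum_univ_three]; ring
  have h1 : A * r * D = 1 := by
    have := congrArg Matrix.det hMP
    rw [Matrix.det_mul, Matrix.det_mul, show M.det = 1 from
      (d : Matrix.SpecialLinearGroup (Fin (2 * 1 + 1)) F).2, one_mul] at this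
    have hT' : T.det = A * r * D := by rw [hT, Matrix.det_fin_three]; simp
    rw [hT'] at this
    exact (mul_left_cancel₀ hdP ((mul_one _).trans this)).symm
  refine ⟨σ, ?_⟩
  have hr : r = A ^ q / A := by
    rw [eq_div_iff hA]
    linear_combination (-(r * A)) * hD + A ^ q * h1
  rw [hg, ← hr, add_comm (σ • B.ff 0)]

/-- conjugation of lower radical elements -/
theorem conj_low {d : SU (2 * 1 + 1) F q} {A : F} (hd : d • B.ff 0 = A • B.ff 0) {δ b : F}
    (hb : b + b ^ q = -herm q (δ • B.gg) (δ • B.gg)) :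
    ∃ b' : F, b' + b' ^ q = -herm q ((A ^ q * (A ^ q / A) * δ) • B.gg)
        ((A ^ q * (A ^ q / A) * δ) • B.gg) ∧
      d * QQ hF (B.ff 0) (δ • B.gg) b * d⁻¹ =
        QQ hF (B.ff 0) ((A ^ q * (A ^ q / A) * δ) • B.gg) b' := by
  obtain ⟨-, C, hg⟩ := gg_image hF B hd
  have hff : herm q (B.ff 0) (B.ff 0) = 0 := B.ff_self 0
  set w0 := (A ^ q * (A ^ q / A) * δ) • B.gg with hw0
  set σ := A ^ q * δ * C with hσ
  have hw0f : herm q w0 (B.ff 0) = 0 := by rw [hw0, herm_smul_left, B.h_gf hF, mul_zero]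
  have hfw0 : herm q (B.ff 0) w0 = 0 := (herm_eq_zero_comm hF).1 hw0f
  have hw : herm q (d • (δ • B.gg)) (B.ff 0) = 0 := by
    rw [smul_comm d, hg, herm_smul_left, herm_add_left, herm_smul_left, herm_smul_left, hff,
      B.h_gf hF]
    ring
  have hbw : b + b ^ q = -herm q (d • (δ • B.gg)) (d • (δ • B.gg)) := by rw [herm_smul_SU]; exact hb
  have hws : A ^ q • (d • (δ • B.gg)) = w0 + σ • B.ff 0 := by
    rw [smul_comm d, hg, hw0, hσ]; module
  have hbs : A * A ^ q * b + (A * A ^ q * b) ^ q = -herm q (w0 + σ • B.ff 0) (w0 + σ • B.ff 0) := by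
    rw [← hws, herm_smul_left, herm_smul_right hF, mul_pow, mul_pow, pow_q_pow_q hF]
    linear_combination A * A ^ q * hbw
  have hbs' : A * A ^ q * b + (A * A ^ q * b) ^ q = -herm q w0 w0 := by
    rw [hbs]
    simp [herm_add_left, herm_add_right hF, herm_smul_left, herm_smul_right hF, hff, hw0f, hfw0]
  refine ⟨A * A ^ q * b + σ - σ ^ q, ?_, ?_⟩
  · rw [sub_pow_q hF, add_pow_q hF, pow_q_pow_q hF]; linear_combination hbs'
  · rw [QQ_conj, hd, QQ_scale hF hff hw hbw, hws, QQ_shift hF hff hw0f hbs']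

variable (H)

/-- long root parameters at `f` -/
def par : AddSubgroup F where
  carrier := {c | c + c ^ q = 0 ∧ TT hF (B.ff 0) c ∈ H}
  zero_mem' := ⟨by rw [zero_pow_q hF, add_zero], by rw [TT_zero]; exact H.one_mem⟩
  add_mem' := by
    rintro c c' ⟨hc, h⟩ ⟨hc', h'⟩
    exact ⟨add_tr hF hc hc', by rw [← TT_mul hF (B.ff_self 0) hc hc']; exact H.mul_mem h h'⟩
  neg_mem' := by
    rintro c ⟨hc, h⟩
    exact ⟨neg_tr hF hc, by rw [← TT_inv hF (B.ff_self 0) hc]; exact H.inv_mem h⟩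

/-- short root parameters at `f` -/
def low : AddSubgroup F where
  carrier := {δ | δ • B.gg ∈ Rad hF H (B.ff 0)}
  zero_mem' := by
    show (0 : F) • B.gg ∈ Rad hF H (B.ff 0)
    rw [zero_smul]; exact rad_zero hF _
  add_mem' := fun {a b} ha hb => by
    show (a + b) • B.gg ∈ Rad hF H (B.ff 0)
    rw [add_smul]; exact rad_add hF (B.ff_self 0) ha hb
  neg_mem' := by
    rintro δ ⟨b, e, o, h⟩
    show (-δ) • B.gg ∈ Rad hF H (B.ff 0)
    rw [neg_smul]
    refine ⟨_, (Qel_inv_cond hF o e).2, (Qel_inv_cond hF o e).1, ?_⟩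
    rw [← QQ_inv hF (B.ff_self 0) o e]; exact H.inv_mem h

variable {H}

theorem low_comm {δ δ' : F} (h : δ ∈ low hF B H) (h' : δ' ∈ low hF B H) :
    δ * δ' ^ q - δ' * δ ^ q ∈ par hF B H := by
  obtain ⟨b, e, o, m⟩ := h
  obtain ⟨b', e', o', m'⟩ := h'
  have h3 := QQ_comm hF (B.ff_self 0) o e o' e'
  have h4 := H.mul_mem (H.inv_mem (H.mul_mem m' m)) (H.mul_mem m m')
  rw [h3, inv_mul_cancel_left] at h4
  rw [herm_smul_left, herm_smul_right hF, herm_smul_left, herm_smul_right hF, B.h_gg hF,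
    mul_one (δ' ^ q), mul_one (δ ^ q)] at h4
  refine ⟨?_, h4⟩
  rw [sub_pow_q hF, mul_pow, mul_pow, pow_q_pow_q hF, pow_q_pow_q hF]; ring

theorem low_scale {d : SU (2 * 1 + 1) F q} (hdH : d ∈ H) {A : F} (hd : d • B.ff 0 = A • B.ff 0)
    {δ : F} (h : δ ∈ low hF B H) : A ^ q * (A ^ q / A) * δ ∈ low hF B H := by
  obtain ⟨b, e, o, m⟩ := h
  obtain ⟨b', e', eq'⟩ := conj_low hF B hd e
  exact ⟨b', e', by rw [herm_smul_left, B.h_gf hF, mul_zero], by rw [← eq']; exact conj_mem hdH m⟩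

theorem par_scale {d : SU (2 * 1 + 1) F q} (hdH : d ∈ H) {A : F} (hd : d • B.ff 0 = A • B.ff 0)
    {c : F} (h : c ∈ par hF B H) : A * A ^ q * c ∈ par hF B H := by
  refine ⟨fixed_mul_tr hF (mul_conj_fixed hF A) h.1, ?_⟩
  rw [← TT_scale hF (B.ff_self 0) A h.1, ← hd, TT_mem_iff hF hdH]
  exact h.2

theorem finish {a β : F} (hb : β + β ^ q = -(a * a ^ q)) (hβ : β ≠ 0) (hq : q ≠ 2)
    (hu : B.reg hF a β ∈ H) (hpar : ∀ c, c + c ^ q = 0 → c ∈ par hF B H)
    (hlow : ∀ δ, δ ∈ low hF B H) : H = ⊤ := by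
  have pf : Pt hF H (B.ff 0) := fun c hc => (hpar c hc).2
  have hx : herm q (B.reg hF a β • B.ff 0) (B.ff 0) ≠ 0 := by
    have h := B.reg_ff_last hF hb (show 0 < 1 by omega)
    rw [show (1 : ℕ) - 1 = 0 from rfl, levi_one, one_smul] at h
    rw [h, herm_add_left, herm_add_left, herm_smul_left, herm_smul_left, B.ff_self, B.h_gf hF,
      B.ef_self hF (by omega)]
    simp [B.hθ, hβ]
  refine eq_top hF (by omega) ?_
  refine link hF B (show 0 < 1 by omega) pf (fun v hv => ?_)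
    (x0 := B.reg hF a β • B.ff 0) (fun i hi => by simp [tail] at hi)
    ((herm_smul_SU _ _ _).trans (B.ff_self 0)) ((pt_iff hF hu _).2 pf) hx
  rw [tail_last B hv]
  exact Submodule.smul_mem _ _ fun z => hlow z

/-- `S` closed under the fixed field and containing two independent elements -/
theorem two_dim {S : AddSubgroup F} {y0 x : F}
    (hy : y0 ∈ S) (hy0 : y0 ≠ 0) (hxy : x * y0 ∈ S) (hx : x ^ q ≠ x)
    (hmul : ∀ r, r ^ q = r → ∀ y ∈ S, r * y ∈ S) : ∀ z, z ∈ S := by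
  classical
  let Φ : {r : F // r ^ q = r} × {r : F // r ^ q = r} → F := fun p => (p.1.1 + p.2.1 * x) * y0
  have hinj : Function.Injective Φ := by
    rintro ⟨⟨a, ha⟩, ⟨b, hb⟩⟩ ⟨⟨a', ha'⟩, ⟨b', hb'⟩⟩ h
    have h' : a + b * x = a' + b' * x := mul_right_cancel₀ hy0 h
    by_cases hbb : b = b'
    · subst hbb
      have : a = a' := add_right_cancel h'
      subst this; rfl
    · exfalso
      have hne : b - b' ≠ 0 := sub_ne_zero.2 hbb
      have e : x = (a' - a) / (b - b') := by rw [eq_div_iff hne]; linear_combination h'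
      exact hx (by rw [e, div_pow, sub_pow_q hF, sub_pow_q hF, ha, ha', hb, hb'])
  have hbij : Function.Bijective Φ := (Nat.bijective_iff_injective_and_card Φ).2 ⟨hinj, by
    rw [Nat.card_prod, card_fixed hF, Nat.card_eq_fintype_card, hF, sq]⟩
  intro z
  obtain ⟨⟨⟨a, ha⟩, ⟨b, hb⟩⟩, rfl⟩ := hbij.2 z
  show (a + b * x) * y0 ∈ S
  rw [add_mul, mul_assoc]
  exact S.add_mem (hmul a ha y0 hy) (hmul b hb _ hxy)

theorem fixed_nat {p : ℕ} (hp : p.Prime) [CharP F p] (hqp : q = p) {x : F} (hx : x ^ q = x) :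
    ∃ k : ℕ, x = k := by
  haveI := Fact.mk hp
  subst hqp
  let Φ : Fin q → {r : F // r ^ q = r} := fun i =>
    ⟨(i.val : F), by rw [← frobenius_def, map_natCast]⟩
  have hinj : Function.Injective Φ := fun i j h =>
    Fin.ext (CharP.natCast_injOn_Iio F q i.isLt j.isLt (congrArg Subtype.val h))
  have hbij : Function.Bijective Φ := (Nat.bijective_iff_injective_and_card Φ).2 ⟨hinj, by
    rw [card_fixed hF, Nat.card_eq_fintype_card, Fintype.card_fin]⟩
  obtain ⟨i, hi⟩ := hbij.2 ⟨x, hx⟩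
  exact ⟨i.val, (congrArg Subtype.val hi).symm⟩

theorem prime_case {p : ℕ} (hp : p.Prime) [CharP F p] (hqp : q = p) (hq : q ≠ 2) {a β x : F}
    (hb : β + β ^ q = -(a * a ^ q)) (ha : a ≠ 0) (hβ : β ≠ 0) (hu : B.reg hF a β ∈ H)
    (h1 : -a ∈ low hF B H) (h2 : x * -a ∈ low hF B H) (hx : x ^ q ≠ x) : H = ⊤ := by
  have hnat : ∀ {S : AddSubgroup F} {r : F}, r ^ q = r → ∀ {y : F}, y ∈ S → r * y ∈ S := by
    intro S r hr y hy
    obtain ⟨k, rfl⟩ := fixed_nat hF hp hqp hr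
    rw [← nsmul_eq_mul]; exact S.nsmul_mem hy k
  set c0 := -a * (x * -a) ^ q - x * -a * (-a) ^ q
  have hc0 : c0 ∈ par hF B H := low_comm hF B h1 h2
  have hc0' : c0 ≠ 0 := by
    have e : c0 = a * a ^ q * (x ^ q - x) := by
      simp only [c0, mul_pow, neg_pow_q hF]; ring
    rw [e]
    exact mul_ne_zero (mul_ne_zero ha (mt (pow_q_eq_zero_iff hF).1 ha)) (sub_ne_zero.2 hx)
  refine finish hF B hb hβ hq hu (fun c hc => ?_)
    (two_dim hF h1 (neg_ne_zero.2 ha) h2 hx fun r hr y hy => hnat hr hy)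
  have hr : (c / c0) ^ q = c / c0 := by
    rw [div_pow, eq_neg_of_add_eq_zero_right hc, eq_neg_of_add_eq_zero_right hc0.1, neg_div_neg_eq]
  have := hnat hr hc0
  rwa [div_mul_cancel₀ _ hc0'] at this

section Torus

variable {ζ a : F} (hN : ζ * ζ ^ q = 1) (hζ : ζ ^ q ≠ ζ) (ha : a * a ^ q = (ζ - ζ ^ q) / B.θ)
variable (hu : B.reg hF a (-(ζ / B.θ)) ∈ H) (hc : TT hF (B.ff 0) B.θ⁻¹ ∈ H)

include hN hζ ha in
theorem data : (-(ζ / B.θ) + (-(ζ / B.θ)) ^ q = -(a * a ^ q)) ∧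
    (-(ζ / B.θ)) ^ q = ζ ^ q / B.θ ∧ ζ ≠ 0 ∧ a ≠ 0 := by
  have h1 : (-(ζ / B.θ)) ^ q = ζ ^ q / B.θ := by
    rw [neg_pow_q hF, div_pow, B.theta_q, div_neg, neg_neg]
  refine ⟨by rw [h1, ha]; ring, h1, fun h => by simp [h] at hN, fun h => ?_⟩
  rw [h, zero_mul, eq_comm, div_eq_zero_iff, sub_eq_zero] at ha
  rcases ha with ha | ha
  · exact hζ ha.symm
  · exact B.hθ ha

include hN hζ ha in
theorem pair_one : ∃ W : Fin (2 * 1 + 1) → F, B.reg hF a (-(ζ / B.θ)) • W = B.ff 0 ∧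
    herm q W W = 0 ∧ herm q (B.ff 0) W = B.θ * ζ ∧ herm q W (B.ff 0) = -(B.θ * ζ ^ q) ∧
    (B.reg hF a (-(ζ / B.θ)))⁻¹ • W = B.ff 0 + (-(2 * (B.θ * a))) • B.gg +
      (3 * ζ ^ q - ζ) • B.ee 0 := by
  obtain ⟨hb, hβq, -, -⟩ := data hF B hN hζ ha
  set β : F := -(ζ / B.θ) with hβ
  set u := B.reg hF a β
  have huf : u • B.ff 0 = B.ff 0 + (B.θ * a) • B.gg + (B.θ * β) • B.ee 0 := by
    have h := B.reg_ff_last hF hb (show 0 < 1 by omega)
    rwa [show (1 : ℕ) - 1 = 0 from rfl, levi_one, one_smul] at h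
  have hug : u • B.gg = B.gg - a ^ q • B.ee 0 := by
    have h := B.reg_gg hF hb
    rwa [show (1 : ℕ) - 1 = 0 from rfl, levi_one, one_smul] at h
  have hue : u • B.ee 0 = B.ee 0 := B.reg_ee_zero hF
  have hus : ∀ (k : F) (v : Fin (2 * 1 + 1) → F), u • (k • v) = k • (u • v) :=
    fun k v => smul_comm u k v
  set W := B.ff 0 + (-(B.θ * a)) • B.gg + (B.θ * β ^ q) • B.ee 0 with hW
  have huW : u • W = B.ff 0 := by
    rw [hW]; simp only [smul_add, hus, huf, hug, hue]
    match_scalars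
    · ring
    · ring
    · linear_combination B.θ * hb
  have hfW : herm q (B.ff 0) W = B.θ * ζ := by
    rw [hW, herm_add_right hF, herm_add_right hF, herm_smul_right hF, herm_smul_right hF,
      B.ff_self, B.fe_self 0 (by omega), B.h_fg hF, mul_pow, B.theta_q, pow_q_pow_q hF, hβ]
    field_simp [B.hθ]
    ring
  refine ⟨W, huW, ?_, hfW, ?_, ?_⟩
  · rw [← herm_smul_SU u, huW, B.ff_self]
  · rw [herm_swap hF, hfW, mul_pow, B.theta_q]; ring
  · rw [inv_smul_eq_iff]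
    simp only [smul_add, hus, huf, hug, hue]
    rw [hW, hβq, hβ]
    match_scalars
    · ring
    · ring
    · have hθ := B.hθ
      field_simp
      have := ha
      rw [eq_div_iff hθ] at this
      linear_combination (-2 : F) * this

include hN hζ ha hu hc in
theorem torus : ∃ t ∈ H, t • B.ff 0 = ζ • B.ff 0 := by
  obtain ⟨W, huW, hWW, hfW, hWf, -⟩ := pair_one hF B hN hζ ha
  have hθ := B.hθ
  have hWm : TT hF W B.θ⁻¹ ∈ H := (TT_mem_iff hF hu W _).1 (by rw [huW]; exact hc)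
  obtain ⟨h1, -⟩ := two_step hF (B.ff_self 0) hWW B.inv_theta_tr B.inv_theta_tr (by
    rw [hfW, hWf]; field_simp; linear_combination (-1 : F) * hN)
  refine ⟨_, H.mul_mem hu (H.mul_mem hc hWm), ?_⟩
  rw [mul_smul, h1, hfW, ← mul_assoc, inv_mul_cancel₀ hθ, one_mul,
    smul_comm (B.reg hF a (-(ζ / B.θ))) ζ, huW]

include hN in
theorem torus_mult : ζ ^ q * (ζ ^ q / ζ) = (ζ ^ 3)⁻¹ := by
  have hζ0 : ζ ≠ 0 := fun h => by simp [h] at hN
  rw [eq_inv_of_mul_eq_one_right hN]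
  field_simp

include hN hζ ha hu hc in
theorem char_three_case (hord : orderOf ζ = q + 1) (h3 : (q + 1).Coprime 3) (hq : q ≠ 2) {δ1 : F}
    (hd1 : δ1 ∈ low hF B H) (hd0 : δ1 ≠ 0) : H = ⊤ := by
  obtain ⟨hb, -, hζ0, -⟩ := data hF B hN hζ ha
  obtain ⟨t, ht, htf⟩ := torus hF B hN hζ ha hu hc
  set ν := (ζ ^ 3)⁻¹ with hν
  have hν0 : ν ≠ 0 := inv_ne_zero (pow_ne_zero _ hζ0)
  have hνm : ∀ y ∈ low hF B H, ν * y ∈ low hF B H := fun y hy => by
    have := low_scale hF B ht htf hy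
    rwa [torus_mult hF hN] at this
  have hoz : orderOf (ζ ^ 3) = q + 1 := by
    rw [Nat.Coprime.orderOf_pow (by rwa [hord]), hord]
  have hinj : ∀ i < q + 1, ∀ j < q + 1, ν ^ i = ν ^ j → i = j := fun i hi j hj h => by
    rw [hν, inv_pow, inv_pow, _root_.inv_inj] at h
    exact pow_injOn_Iio_orderOf (by simpa [hoz] using hi) (by simpa [hoz] using hj) h
  have hν' : ν ^ q ≠ ν := fun h => by
    have hq2 := two_le_q hF
    have h1 := hinj q (by omega) 1 (by omega) (by rw [pow_one, h])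
    omega
  have htop := addSubgroup_eq_top hF hd1 hd0 hνm hν' hinj (by omega)
  refine finish hF B hb (neg_ne_zero.2 (div_ne_zero hζ0 B.hθ)) hq hu (fun c hc' => ?_)
    (fun δ => by rw [htop]; trivial)
  obtain ⟨z, hz⟩ := exists_sub_pow_eq hF hc'
  have := low_comm hF B (δ := z) (δ' := 1) (H := H) (by rw [htop]; trivial) (by rw [htop]; trivial)
  rwa [one_pow, mul_one, one_mul, hz] at this

include hN hζ ha hu hc in
theorem nonprime_case (hord : orderOf ζ = q + 1) (hq : q ≠ 2) (hq3 : q ≠ 3) (hq5 : q ≠ 5)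
    (h3 : (3 : F) ≠ 0) {δ1 : F} (hd1 : δ1 ∈ low hF B H)
    (hN1 : δ1 * δ1 ^ q * ((ζ ^ 3) - (ζ ^ 3)⁻¹) * (10 - 3 * (ζ ^ 2 + (ζ ^ 2)⁻¹)) = B.θ⁻¹) :
    H = ⊤ := by
  classical
  obtain ⟨hb, hβq, hζ0, -⟩ := data hF B hN hζ ha
  obtain ⟨t, ht, htf⟩ := torus hF B hN hζ ha hu hc
  obtain ⟨W, huW, hWW, hfW, hWf, hVW⟩ := pair_one hF B hN hζ ha
  have hθ : B.θ ≠ 0 := B.hθ
  set u := B.reg hF a (-(ζ / B.θ))
  set c := B.θ⁻¹ with hcdef
  set N0 := 10 - 3 * (ζ ^ 2 + (ζ ^ 2)⁻¹) with hN0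
  have hζq : ζ ^ q = ζ⁻¹ := eq_inv_of_mul_eq_one_right hN
  set ν := (ζ ^ 3)⁻¹ with hν
  have hνd : ν * δ1 ∈ low hF B H := by
    have := low_scale hF B ht htf hd1
    rwa [torus_mult hF hN] at this
  have hνq : ν ^ q = ζ ^ 3 := by
    rw [hν, inv_pow, ← pow_mul, mul_comm, pow_mul, hζq, inv_pow, inv_inv]
  have hd10 : δ1 ≠ 0 := fun h => by
    rw [h] at hN1; simp [hcdef] at hN1; exact hθ hN1.symm
  have hN00 : N0 ≠ 0 := fun h => by
    rw [h, mul_zero] at hN1; exact hθ (inv_eq_zero.1 hN1.symm)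
  have hν' : ν ^ q ≠ ν := fun h => by
    rw [hνq] at h
    rw [← h, sub_self] at hN1
    simp [hcdef] at hN1
    exact hθ hN1.symm
  have hc' : c / N0 ∈ par hF B H := by
    have h := low_comm hF B hd1 hνd
    have e : δ1 * (ν * δ1) ^ q - ν * δ1 * δ1 ^ q = c / N0 := by
      rw [eq_div_iff hN00, ← hN1, mul_pow, hνq, hN0]; ring
    rwa [e] at h
  set V := u⁻¹ • W with hV
  set A := 3 * ζ - ζ ^ q with hA
  have hfV : herm q (B.ff 0) V = A * B.θ := by
    rw [hVW, herm_add_right hF, herm_add_right hF, herm_smul_right hF, herm_smul_right hF, B.ff_self,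
      B.h_fg hF, B.fe_self 0 (by omega), sub_pow_q hF, mul_pow, pow_q_pow_q hF, hA]
    have h3q : (3 : F) ^ q = 3 := by
      rw [show (3 : F) = 1 + 1 + 1 by ring, add_pow_q hF, add_pow_q hF, one_pow]
    rw [h3q]; ring
  have hAA : A * A ^ q = N0 := by
    have h3q : (3 : F) ^ q = 3 := by
      rw [show (3 : F) = 1 + 1 + 1 by ring, add_pow_q hF, add_pow_q hF, one_pow]
    rw [hA, sub_pow_q hF, mul_pow, pow_q_pow_q hF, h3q, hN0, hζq]
    field_simp
    ring
  have hVf : herm q V (B.ff 0) = A ^ q * -B.θ := by rw [herm_swap hF, hfV, mul_pow, B.theta_q]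
  have hVV : herm q V V = 0 := by rw [hV, herm_smul_SU, hWW]
  have hVm : TT hF V c ∈ H := by
    rw [hV]
    refine (TT_mem_iff hF (H.inv_mem hu) W c).2 ?_
    exact (TT_mem_iff hF hu W _).1 (by rw [huW]; exact hc)
  obtain ⟨h1, -⟩ := two_step hF (B.ff_self 0) hVV hc'.1 B.inv_theta_tr (by
    rw [hfV, hVf, show A * B.θ * (A ^ q * -B.θ) = -(B.θ * B.θ * (A * A ^ q)) by ring, hAA, hcdef]
    field_simp
    ring)
  have ht2 : (u * u * (TT hF (B.ff 0) (c / N0) * TT hF V c)) • B.ff 0 = A • B.ff 0 := by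
    rw [mul_smul, h1, hfV, mul_smul, smul_comm u (c * (A * B.θ)), smul_comm u (c * (A * B.θ)), hV,
      smul_inv_smul, huW, hcdef]
    congr 1
    field_simp
  have ht2H : u * u * (TT hF (B.ff 0) (c / N0) * TT hF V c) ∈ H :=
    H.mul_mem (H.mul_mem hu hu) (H.mul_mem hc'.2 hVm)
  -- the multiplier ring
  let R : Subring F :=
    { carrier := {x | ∀ y ∈ par hF B H, x * y ∈ par hF B H}
      one_mem' := fun y hy => by rwa [one_mul]
      mul_mem' := fun {a b} ha hb y hy => by rw [mul_assoc]; exact ha _ (hb y hy)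
      zero_mem' := fun y _ => by rw [zero_mul]; exact (par hF B H).zero_mem
      add_mem' := fun {a b} ha hb y hy => by rw [add_mul]; exact (par hF B H).add_mem (ha y hy) (hb y hy)
      neg_mem' := fun {a} ha y hy => by rw [neg_mul]; exact (par hF B H).neg_mem (ha y hy) }
  have hN0R : N0 ∈ R := fun y hy => by rw [← hAA]; exact par_scale hF B ht2H ht2 hy
  set η := ζ ^ 2 with hη
  set σ := η + η⁻¹ with hσ
  have h3i : (3 : F)⁻¹ ∈ R := by
    have h : (3 : F) ^ (Fintype.card F - 2) * 3 = 1 := by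
      rw [← pow_succ, show Fintype.card F - 2 + 1 = Fintype.card F - 1 by
        have := Fintype.one_lt_card (α := F); omega, FiniteField.pow_card_sub_one_eq_one _ h3]
    rw [← eq_inv_of_mul_eq_one_left h]
    exact pow_mem (natCast_mem R 3) _
  have hσR : σ ∈ R := by
    have : σ = (3 : F)⁻¹ * (10 - N0) := by rw [hN0, hσ, hη]; field_simp; ring
    rw [this]
    exact R.mul_mem h3i (R.sub_mem (natCast_mem R 10) hN0R)
  have hη0 : η ≠ 0 := pow_ne_zero _ hζ0
  have hoη : q + 1 ≤ 2 * orderOf η := by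
    rw [hη, orderOf_pow' _ (by norm_num : 2 ≠ 0), hord]
    have hg : Nat.gcd (q + 1) 2 ∣ 2 := Nat.gcd_dvd_right _ _
    rcases (Nat.dvd_prime Nat.prime_two).1 hg with h | h
    · rw [h, Nat.div_one]; omega
    · rw [h]
      have : 2 ∣ q + 1 := h ▸ Nat.gcd_dvd_left (q + 1) 2
      omega
  have hη' : η ^ q ≠ η := fun h => by
    have h4 : ζ ^ 4 = 1 := by
      rw [hη, ← pow_mul, mul_comm, pow_mul, hζq, inv_pow] at h
      field_simp at h
      linear_combination -h
    have h5 := Nat.le_of_dvd (by norm_num) (hord ▸ orderOf_dvd_of_pow_eq_one h4 : q + 1 ∣ 4)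
    have := two_le_q hF
    omega
  have hσq : σ ^ q = σ := by
    rw [hσ, hη, add_pow_q hF, inv_pow, ← pow_mul, mul_comm, pow_mul, hζq, inv_pow, inv_inv, add_comm]
  let R2 : Subring F :=
    { carrier := {x | ∃ a b : F, a ∈ R ∧ b ∈ R ∧ a ^ q = a ∧ b ^ q = b ∧ x = a + b * η}
      one_mem' := ⟨1, 0, R.one_mem, R.zero_mem, one_pow _, zero_pow_q hF, by ring⟩
      zero_mem' := ⟨0, 0, R.zero_mem, R.zero_mem, zero_pow_q hF, zero_pow_q hF, by ring⟩
      add_mem' := by
        rintro x y ⟨a, b, ha, hb, fa, fb, rfl⟩ ⟨a', b', ha', hb', fa', fb', rfl⟩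
        exact ⟨a + a', b + b', R.add_mem ha ha', R.add_mem hb hb', by rw [add_pow_q hF, fa, fa'],
          by rw [add_pow_q hF, fb, fb'], by ring⟩
      neg_mem' := by
        rintro x ⟨a, b, ha, hb, fa, fb, rfl⟩
        exact ⟨-a, -b, R.neg_mem ha, R.neg_mem hb, by rw [neg_pow_q hF, fa],
          by rw [neg_pow_q hF, fb], by ring⟩
      mul_mem' := by
        rintro x y ⟨a, b, ha, hb, fa, fb, rfl⟩ ⟨a', b', ha', hb', fa', fb', rfl⟩
        refine ⟨a * a' - b * b', a * b' + b * a' + b * b' * σ,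
          R.sub_mem (R.mul_mem ha ha') (R.mul_mem hb hb'),
          R.add_mem (R.add_mem (R.mul_mem ha hb') (R.mul_mem hb ha'))
            (R.mul_mem (R.mul_mem hb hb') hσR),
          by rw [sub_pow_q hF, mul_pow, mul_pow, fa, fa', fb, fb'],
          by rw [add_pow_q hF, add_pow_q hF, mul_pow, mul_pow, mul_pow, mul_pow, fa, fa', fb, fb', hσq],
          ?_⟩
        rw [hσ]; field_simp; ring }
  have hηR2 : η ∈ R2 :=
    ⟨0, 1, R.zero_mem, R.one_mem, zero_pow_q hF, one_pow _, by ring⟩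
  have hcard : orderOf η + 1 ≤ Nat.card R2 := by
    let f : Option (Fin (orderOf η)) → R2 := fun o =>
      o.elim 0 (fun i => ⟨η ^ i.val, pow_mem hηR2 _⟩)
    have hf : Function.Injective f := by
      rintro (_ | i) (_ | j) h
      · rfl
      · exact absurd (congrArg Subtype.val h).symm (by simpa [f] using pow_ne_zero j.val hη0)
      · exact absurd (congrArg Subtype.val h) (by simpa [f] using pow_ne_zero i.val hη0)
      · exact congrArg some (Fin.ext (pow_injOn_Iio_orderOf i.isLt j.isLt (congrArg Subtype.val h)))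
    simpa using Nat.card_le_card_of_injective f hf
  have hR2 := subring_eq_top hF hηR2 hη' (by omega)
  have hfixR : ∀ x, x ^ q = x → x ∈ R := by
    intro x hx
    obtain ⟨a', b', ha', -, fa, fb, e⟩ := show x ∈ R2 by rw [hR2]; trivial
    have : b' * (η ^ q - η) = 0 := by
      have h := congrArg (fun z => z ^ q) e
      simp only [add_pow_q hF, mul_pow, hx, fa, fb] at h
      linear_combination e - h
    rw [(mul_eq_zero.1 this).resolve_right (sub_ne_zero.2 hη'), zero_mul, add_zero] at e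
    rwa [e]
  have hcpar : c ∈ par hF B H := ⟨B.inv_theta_tr, hc⟩
  have hpar : ∀ z, z + z ^ q = 0 → z ∈ par hF B H := by
    intro z hz
    have hr : (z / c) ^ q = z / c := by
      rw [div_pow, eq_neg_of_add_eq_zero_right hz, hcdef, B.inv_theta_q, neg_div_neg_eq]
    have := hfixR _ hr c hcpar
    rwa [div_mul_cancel₀ _ (inv_ne_zero hθ)] at this
  have pf : Pt hF H (B.ff 0) := fun z hz => (hpar z hz).2
  have pW : Pt hF H W := by rw [← pt_iff hF hu, huW]; exact pf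
  have hlowmul : ∀ r, r ^ q = r → ∀ y ∈ low hF B H, r * y ∈ low hF B H := by
    intro r hr y hy
    by_cases hr0 : r = 0
    · rw [hr0, zero_mul]; exact (low hF B H).zero_mem
    have hρ : -r / B.θ + (-r / B.θ) ^ q = 0 := by
      rw [div_pow, neg_pow_q hF, hr, B.theta_q, neg_div_neg_eq, neg_div, neg_add_cancel]
    have hs : -(r * B.θ)⁻¹ + (-(r * B.θ)⁻¹) ^ q = 0 := by
      rw [neg_pow_q hF, inv_pow, mul_pow, hr, B.theta_q, mul_neg, inv_neg, neg_neg, neg_add_cancel]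
    obtain ⟨g1, -⟩ := two_step hF (B.ff_self 0) hWW B.inv_theta_tr B.inv_theta_tr (by
      rw [hfW, hWf]; field_simp; linear_combination (-1 : F) * hN)
    obtain ⟨g2, -⟩ := two_step hF hWW (B.ff_self 0) hs hρ (by
      rw [hfW, hWf]; field_simp; linear_combination (-1 : F) * hN)
    have hd : ((TT hF W (-(r * B.θ)⁻¹) * TT hF (B.ff 0) (-r / B.θ)) *
        (TT hF (B.ff 0) B.θ⁻¹ * TT hF W B.θ⁻¹)) • B.ff 0 = r • B.ff 0 := by
      rw [mul_smul, g1, smul_comm, g2, smul_smul, hfW, hWf]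
      congr 1
      field_simp
      linear_combination hN
    have := low_scale hF B (H.mul_mem (H.mul_mem (pW _ hs) (pf _ hρ))
      (H.mul_mem (pf _ B.inv_theta_tr) (pW _ B.inv_theta_tr))) hd hy
    rwa [hr, div_self hr0, mul_one] at this
  exact finish hF B hb (neg_ne_zero.2 (div_ne_zero hζ0 hθ)) hq hu hpar
    (two_dim hF hd1 hd10 hνd hν' hlowmul)

end Torus

theorem exists_scaling (hq : 3 ≤ q) {A : F} (hA : A ≠ 0) :
    ∃ d : SU (2 * 1 + 1) F q, d • B.ff 0 = A • B.ff 0 := by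
  have hf0 : B.ff 0 ≠ 0 := fun h => by
    have := B.fe_self 0 (by omega)
    rw [h, herm_zero_left] at this
    exact B.hθ this.symm
  obtain ⟨t, -, ht⟩ := exists_move hF (S := (∅ : Finset (Fin (2 * 1 + 1)))) (by simp)
    (u := B.ff 0) (u' := A • B.ff 0) (by simp [supp_empty]) (by simp [supp_empty]) (B.ff_self 0)
    (by rw [herm_smul_left, herm_smul_right hF, B.ff_self]; ring) hf0 (smul_ne_zero hA hf0)
  exact ⟨t, ht⟩

/-- a conjugate of the regular element in the lower radical -/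
theorem lower_conj {a β : F} (hb : β + β ^ q = -(a * a ^ q)) {d : SU (2 * 1 + 1) F q} {A : F}
    (hd : d • B.ff 0 = A • B.ff 0)
    (hm : d * (B.weylJ hF * B.reg hF a β * (B.weylJ hF)⁻¹) * d⁻¹ ∈ H) :
    A ^ q * (A ^ q / A) * -a ∈ low hF B H := by
  have hb' : β + β ^ q = -herm q ((-a) • B.gg) ((-a) • B.gg) := by
    rw [herm_smul_left, herm_smul_right hF, B.h_gg hF, neg_pow_q hF, hb]; ring
  have e : B.weylJ hF * B.reg hF a β * (B.weylJ hF)⁻¹ = QQ hF (B.ff 0) ((-a) • B.gg) β := by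
    have h := QQ_scale hF (B.ff_self 0) (w := a • B.gg) (b := β)
      (by rw [herm_smul_left, B.h_gf hF, mul_zero])
      (by rw [herm_smul_left, herm_smul_right hF, B.h_gg hF, hb]; ring) (-1)
    rw [neg_pow_q hF, one_pow, neg_one_smul, neg_one_smul, show (-1 : F) * -1 * β = β by ring,
      ← neg_smul] at h
    rw [reg_one, Fr.top, QQ_conj, B.weylJ_ee hF, smul_comm (B.weylJ hF) a, B.weylJ_gg hF]
    exact h
  obtain ⟨b', e', eq'⟩ := conj_low hF B hd hb'
  rw [e, eq'] at hm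
  exact ⟨b', e', by rw [herm_smul_left, B.h_gf hF, mul_zero], hm⟩

/-- a conjugate giving a long root element -/
theorem comm_top {a β : F} (hb : β + β ^ q = -(a * a ^ q)) (ha : a ≠ 0) {c : F}
    (hc : c + c ^ q = 0) :
    ∃ k : SU (2 * 1 + 1) F q,
      k * B.reg hF a β * k⁻¹ * (B.reg hF a β)⁻¹ = TT hF (B.ee 0) c := by
  obtain ⟨z, hz⟩ := exists_sub_pow_eq hF hc
  have haq : a ^ q ≠ 0 := mt (pow_q_eq_zero_iff hF).1 ha
  set s := z / a ^ q with hs
  obtain ⟨bs, hbs⟩ := exists_trace_eq hF (t := -(s * s ^ q))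
    (by rw [neg_pow_q hF, mul_conj_fixed hF])
  refine ⟨QQ hF (B.ee 0) (s • B.gg) bs, ?_⟩
  have o : ∀ x : F, herm q (x • B.gg) (B.ee 0) = 0 := fun x => by
    rw [herm_smul_left, B.h_ge hF, mul_zero]
  have hN : ∀ x : F, herm q (x • B.gg) (x • B.gg) = x * x ^ q := fun x => by
    rw [herm_smul_left, herm_smul_right hF, B.h_gg hF, mul_one]
  have h := QQ_comm hF (B.ee_self 0) (o s) (by rw [hN, hbs]) (o a) (b2 := β) (by rw [hN, hb])
  have e1 : herm q (s • B.gg) (a • B.gg) - herm q (a • B.gg) (s • B.gg) = c := by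
    rw [herm_smul_left, herm_smul_right hF, herm_smul_left, herm_smul_right hF, B.h_gg hF, ← hz, hs,
      div_pow, pow_q_pow_q hF]
    field_simp
  rw [e1] at h
  have hreg : B.reg hF a β = QQ hF (B.ee 0) (a • B.gg) β := reg_one hF B a β
  rw [hreg]
  set X := QQ hF (B.ee 0) (s • B.gg) bs
  set U := QQ hF (B.ee 0) (a • B.gg) β
  have hcomm : U * X * TT hF (B.ee 0) c = TT hF (B.ee 0) c * (U * X) := by
    have e : (U * X) * TT hF (B.ee 0) c * (U * X)⁻¹ = TT hF (B.ee 0) c := by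
      rw [TT_conj, mul_smul, QQ_fix hF bs (B.ee_self 0) (by
          rw [herm_smul_right hF, B.h_eg hF, mul_zero]),
        QQ_fix hF β (B.ee_self 0) (by rw [herm_smul_right hF, B.h_eg hF, mul_zero])]
    exact mul_inv_eq_iff_eq_mul.1 e
  rw [h, hcomm]
  group

theorem main_three (hq : q ≠ 2) : ∃ a β : F, a ≠ 0 ∧ β + β ^ q = -(a * a ^ q) ∧
    ∃ g h : SU (2 * 1 + 1) F q, Subgroup.closure ({B.reg hF a β, g * B.reg hF a β * g⁻¹,
      h * B.reg hF a β * h⁻¹} : Set (SU (2 * 1 + 1) F q)) = ⊤ := by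
  classical
  have hq2 := two_le_q hF
  obtain ⟨p, k, hp, hk, hc, hqpk⟩ := exists_prime_pow hF
  haveI := hc
  haveI := Fact.mk hp
  obtain ⟨ζ, hN, hζ, hζ0, hord⟩ := exists_norm_one_gen hF
  have hfix : ((ζ - ζ ^ q) / B.θ) ^ q = (ζ - ζ ^ q) / B.θ := by
    rw [div_pow, sub_pow_q hF, pow_q_pow_q hF, B.theta_q, div_neg, ← neg_div, neg_sub]
  obtain ⟨a, ha⟩ := exists_norm_eq hF hfix
  rw [pow_succ'] at ha
  obtain ⟨hb, -, -, ha0⟩ := data hF B hN hζ ha
  refine ⟨a, -(ζ / B.θ), ha0, hb, ?_⟩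
  set u := B.reg hF a (-(ζ / B.θ)) with hu
  set J := B.weylJ hF with hJ
  have hJu : ∀ d : SU (2 * 1 + 1) F q, (d * J) * u * (d * J)⁻¹ = d * (J * u * J⁻¹) * d⁻¹ :=
    fun d => by group
  by_cases hprime : q = p ∧ p ≠ 3
  · -- the prime field
    obtain ⟨hqp, -⟩ := hprime
    obtain ⟨b, hbg⟩ := IsCyclic.exists_generator (α := Fˣ)
    set x : F := (b : F) ^ q * ((b : F) ^ q / b) with hx
    have hbq : (b : F) ^ q ≠ 0 := pow_ne_zero _ b.ne_zero
    have hxq : x ^ q ≠ x := by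
      intro h
      have h3 : ((b : F) ^ q) ^ 3 = (b : F) ^ 3 := by
        rw [hx, mul_pow, div_pow, pow_q_pow_q hF] at h
        field_simp at h
        linear_combination -h
      have h4 : b ^ (3 * q) = b ^ 3 := Units.ext (by push_cast; rw [mul_comm, pow_mul]; exact h3)
      have hob : orderOf b = q ^ 2 - 1 := by
        rw [orderOf_eq_card_of_forall_mem_zpowers hbg, Nat.card_eq_fintype_card, Fintype.card_units,
          hF]
      have h5 : b ^ (3 * (q - 1)) = 1 := by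
        have : b ^ (3 * (q - 1)) * b ^ 3 = b ^ 3 := by
          rw [← pow_add, show 3 * (q - 1) + 3 = 3 * q by omega, h4]
        simpa using this
      have h6 := orderOf_dvd_of_pow_eq_one h5
      rw [hob, show q ^ 2 - 1 = (q + 1) * (q - 1) by rw [← Nat.sq_sub_sq, one_pow]] at h6
      have h7 := Nat.le_of_dvd (by norm_num)
        (Nat.dvd_of_mul_dvd_mul_right (by omega : 0 < q - 1) h6)
      omega
    obtain ⟨d, hd⟩ := exists_scaling hF B (by omega) b.ne_zero
    refine ⟨J, d * J, ?_⟩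
    set H := Subgroup.closure ({u, J * u * J⁻¹, d * J * u * (d * J)⁻¹} : Set (SU (2 * 1 + 1) F q))
    have h1 : u ∈ H := Subgroup.subset_closure (by simp)
    have h2 : J * u * J⁻¹ ∈ H := Subgroup.subset_closure (by simp)
    have h3 : d * (J * u * J⁻¹) * d⁻¹ ∈ H := by
      rw [← hJu]; exact Subgroup.subset_closure (by simp)
    have l1 := lower_conj hF B hb (d := 1) (A := 1) (by simp) (by simpa using h2)
    simp only [one_pow, div_one, one_mul] at l1
    exact prime_case hF B hp hqp hq hb ha0 (neg_ne_zero.2 (div_ne_zero hζ0 B.hθ)) h1 l1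
      (lower_conj hF B hb hd h3) hxq
  · -- with a torus
    have hq3 : 3 ≤ q := by omega
    -- it suffices to choose the scalar
    suffices hs : ∃ A : F, A ≠ 0 ∧ ∀ (H : Subgroup (SU (2 * 1 + 1) F q)), u ∈ H →
        TT hF (B.ff 0) B.θ⁻¹ ∈ H → A ^ q * (A ^ q / A) * -a ∈ low hF B H → H = ⊤ by
      obtain ⟨A, hA, hmain⟩ := hs
      obtain ⟨d, hd⟩ := exists_scaling hF B hq3 hA
      have hNA : A * A ^ q ≠ 0 := mul_ne_zero hA (mt (pow_q_eq_zero_iff hF).1 hA)
      have hc0 : (A * A ^ q)⁻¹ * B.θ⁻¹ + ((A * A ^ q)⁻¹ * B.θ⁻¹) ^ q = 0 :=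
        fixed_mul_tr hF (by rw [inv_pow, mul_conj_fixed hF]) B.inv_theta_tr
      obtain ⟨k1, hk1⟩ := comm_top hF B hb ha0 hc0
      refine ⟨d * J, d * J * k1, ?_⟩
      set H := Subgroup.closure ({u, d * J * u * (d * J)⁻¹,
        d * J * k1 * u * (d * J * k1)⁻¹} : Set (SU (2 * 1 + 1) F q))
      have h1 : u ∈ H := Subgroup.subset_closure (by simp)
      have h2 : d * J * u * (d * J)⁻¹ ∈ H := Subgroup.subset_closure (by simp)
      have h3 : d * J * k1 * u * (d * J * k1)⁻¹ ∈ H := Subgroup.subset_closure (by simp)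
      refine hmain H h1 ?_ (lower_conj hF B hb hd (by rw [← hJu]; exact h2))
      have := H.mul_mem h3 (H.inv_mem h2)
      rwa [show d * J * k1 * u * (d * J * k1)⁻¹ * (d * J * u * (d * J)⁻¹)⁻¹ =
          (d * J) * (k1 * u * k1⁻¹ * u⁻¹) * (d * J)⁻¹ by group, hu, hk1, TT_conj, mul_smul, hJ,
        B.weylJ_ee hF, smul_neg, hd, ← neg_smul, TT_scale hF (B.ff_self 0) _ hc0, neg_pow_q hF,
        neg_mul_neg, mul_inv_cancel_left₀ hNA] at this
    by_cases hp3 : p = 3
    · refine ⟨1, one_ne_zero, fun H h1 h2 h3 => ?_⟩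
      have hcop : (q + 1).Coprime 3 := by
        rw [Nat.coprime_comm, Nat.prime_three.coprime_iff_not_dvd]
        intro h
        have : 3 ∣ q := hp3 ▸ hqpk ▸ dvd_pow_self p hk.ne'
        omega
      exact char_three_case hF B hN hζ ha h1 h2 hord hcop hq h3
        (by simp [ha0])
    · have hqp : q ≠ p := fun h => hprime ⟨h, hp3⟩
      have hne : ∀ r : ℕ, r.Prime → q ≠ r := by
        intro r hr h
        have hdvd : p ∣ r := h ▸ hqpk ▸ dvd_pow_self p hk.ne'
        exact hqp (h.trans ((Nat.prime_dvd_prime_iff_eq hp hr).1 hdvd).symm)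
      have hq5 : q ≠ 5 := hne 5 (by norm_num)
      have hq3' : q ≠ 3 := hne 3 (by norm_num)
      have h3 : (3 : F) ≠ 0 := fun h => hp3
        ((Nat.prime_dvd_prime_iff_eq hp Nat.prime_three).1
          ((CharP.cast_eq_zero_iff F p 3).1 (by exact_mod_cast h)))
      have hζq : ζ ^ q = ζ⁻¹ := eq_inv_of_mul_eq_one_right hN
      have h6 : ζ ^ 3 - (ζ ^ 3)⁻¹ ≠ 0 := by
        intro h
        have h6 : ζ ^ 6 = 1 := by
          rw [sub_eq_zero] at h
          have := mul_inv_cancel₀ (pow_ne_zero 3 hζ0)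
          rw [← h] at this
          linear_combination this
        have h7 : q + 1 ∣ 6 := hord ▸ orderOf_dvd_of_pow_eq_one h6
        have h8 := Nat.le_of_dvd (by norm_num) h7
        have : q ≤ 5 := by omega
        interval_cases q <;> omega
      have h3q : (3 : F) ^ q = 3 := by
        rw [show (3 : F) = 1 + 1 + 1 by ring, add_pow_q hF, add_pow_q hF, one_pow]
      set A0 := 3 * ζ - ζ ^ q with hA0
      have hAA : A0 * A0 ^ q = 10 - 3 * (ζ ^ 2 + (ζ ^ 2)⁻¹) := by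
        rw [hA0, sub_pow_q hF, mul_pow, pow_q_pow_q hF, h3q, hζq]
        field_simp
        ring
      have hA00 : A0 ≠ 0 := by
        intro h
        rw [hA0, sub_eq_zero] at h
        have h' := congrArg (fun z => z ^ q) h
        simp only [mul_pow, h3q, pow_q_pow_q hF] at h'
        have h8 : (8 : F) * ζ = 0 := by linear_combination (3 : F) * h + h'
        have h2 : (2 : F) = 0 := by
          by_contra h2
          exact mul_ne_zero (by rw [show (8 : F) = 2 ^ 3 by norm_num]; exact pow_ne_zero _ h2) hζ0 h8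
        exact hζ (by linear_combination -h + ζ * h2)
      set T := B.θ⁻¹ / (a * a ^ q * (ζ ^ 3 - (ζ ^ 3)⁻¹) * (A0 * A0 ^ q)) with hT
      have hTf : T ^ q = T := by
        rw [hT, div_pow, mul_pow, mul_pow, mul_conj_fixed hF, mul_conj_fixed hF, B.inv_theta_q,
          sub_pow_q hF, inv_pow, ← pow_mul, mul_comm 3 q, pow_mul, hζq, inv_pow, inv_inv,
          ← neg_sub (ζ ^ 3) (ζ ^ 3)⁻¹, mul_neg, neg_mul, neg_div_neg_eq]
      obtain ⟨A, hA⟩ := exists_norm_eq hF hTf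
      rw [pow_succ'] at hA
      have hN0 : a * a ^ q * (ζ ^ 3 - (ζ ^ 3)⁻¹) * (A0 * A0 ^ q) ≠ 0 :=
        mul_ne_zero (mul_ne_zero (mul_ne_zero ha0 (mt (pow_q_eq_zero_iff hF).1 ha0)) h6)
          (mul_ne_zero hA00 (mt (pow_q_eq_zero_iff hF).1 hA00))
      have hA' : A ≠ 0 := fun h => by
        rw [h, zero_mul, hT, eq_comm, div_eq_zero_iff] at hA
        exact hA.elim (inv_ne_zero B.hθ) hN0
      refine ⟨A, hA', fun H h1 h2 h3' => ?_⟩
      refine nonprime_case hF B hN hζ ha h1 h2 hord hq hq3' hq5 h3 h3' ?_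
      have e : (A ^ q * (A ^ q / A) * -a) * (A ^ q * (A ^ q / A) * -a) ^ q =
          T * (a * a ^ q) := by
        rw [mul_pow, mul_pow, div_pow, pow_q_pow_q hF, neg_pow_q hF, ← hA]
        have hAq : A ^ q ≠ 0 := mt (pow_q_eq_zero_iff hF).1 hA'
        field_simp
      rw [e, ← hAA, mul_assoc, mul_assoc, ← mul_assoc (a * a ^ q), hT, div_mul_cancel₀ _ hN0]

end Cfsg.Agent.SUThreeRegUnip
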