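import Cfsg.Agent.SUThreeRegUnip.Link

/-!
Subrings of a finite field containing a large cyclic group.
-/

set_option autoImplicit false

namespace Cfsg.Agent.SUThreeRegUnip

open Cfsg.Agent.Unitary

variable {F : Type*} [Field F] [Fintype F] {q : ℕ} (hF : Fintype.card F = q ^ 2)
include hF

theorem subring_eq_top {R : Subring F} {η : F} (hη : η ∈ R) (hη' : η ^ q ≠ η)
    (hcard : q + 3 ≤ 2 * Nat.card R) : R = ⊤ := by
  classical
  haveI : Fintype R := Fintype.ofFinite R
  rw [Nat.card_eq_fintype_card] at hcard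
  letI : Field R := Fintype.fieldOfDomain R
  have hd : Fintype.card F = Fintype.card R ^ Module.finrank R F := Module.card_eq_pow_finrank
  rw [hF] at hd
  have hR2 : 2 ≤ Fintype.card R := Fintype.one_lt_card
  rcases lt_trichotomy (Module.finrank R F) 2 with h | h | h
  · have h1 : Module.finrank R F = 1 := by
      have : 0 < Module.finrank R F := Module.finrank_pos
      omega
    rw [h1, pow_one] at hd
    refine eq_top_iff.2 fun x _ => ?_
    have hb : Function.Bijective (Subtype.val : R → F) :=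
      (Fintype.bijective_iff_injective_and_card _).2 ⟨Subtype.val_injective, by rw [hF, hd]⟩
    obtain ⟨y, rfl⟩ := hb.2 x
    exact y.2
  · exfalso
    rw [h] at hd
    have hq : q = Fintype.card R := Nat.pow_left_injective (by norm_num : 2 ≠ 0) hd
    have := congrArg Subtype.val (FiniteField.pow_card (⟨η, hη⟩ : R))
    rw [← hq] at this
    exact hη' (by simpa using this)
  · exfalso
    have h3 : Fintype.card R ^ 3 ≤ q ^ 2 := hd ▸ Nat.pow_le_pow_right (by omega) h
    have h4 : (q + 3) ^ 3 ≤ (2 * Fintype.card R) ^ 3 := Nat.pow_le_pow_left hcard 3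
    nlinarith [Nat.zero_le (q ^ 3), sq_nonneg (q : ℤ)]

/-- an additive subgroup stable under a large cyclic group is everything -/
theorem addSubgroup_eq_top {S : AddSubgroup F} {y0 : F} (hy : y0 ∈ S) (hy0 : y0 ≠ 0) {η : F}
    (hη : ∀ y ∈ S, η * y ∈ S) (hη' : η ^ q ≠ η) {r : ℕ}
    (hinj : ∀ i < r, ∀ j < r, η ^ i = η ^ j → i = j) (hr : q + 1 ≤ 2 * r) : S = ⊤ := by
  classical
  let R : Subring F :=
    { carrier := {x | ∀ y ∈ S, x * y ∈ S}
      one_mem' := fun y hy => by rwa [one_mul]
      mul_mem' := fun {a b} ha hb y hy => by rw [mul_assoc]; exact ha _ (hb y hy)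
      zero_mem' := fun y _ => by rw [zero_mul]; exact S.zero_mem
      add_mem' := fun {a b} ha hb y hy => by rw [add_mul]; exact S.add_mem (ha y hy) (hb y hy)
      neg_mem' := fun {a} ha y hy => by rw [neg_mul]; exact S.neg_mem (ha y hy) }
  have hη0 : η ≠ 0 := fun h => hη' (by rw [h, zero_pow_q hF])
  have hcard : r + 1 ≤ Nat.card R := by
    let f : Option (Fin r) → R := fun o =>
      o.elim 0 (fun i => ⟨η ^ i.val, pow_mem (show η ∈ R from hη) _⟩)
    have hf : Function.Injective f := by
      rintro (_ | i) (_ | j) h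
      · rfl
      · exact absurd (congrArg Subtype.val h).symm (by simpa [f] using pow_ne_zero j.val hη0)
      · exact absurd (congrArg Subtype.val h) (by simpa [f] using pow_ne_zero i.val hη0)
      · exact congrArg some (Fin.ext (hinj _ i.isLt _ j.isLt (congrArg Subtype.val h)))
    have := Nat.card_le_card_of_injective f hf
    simpa using this
  have hR := subring_eq_top hF (show η ∈ R from hη) hη' (by omega)
  refine eq_top_iff.2 fun z _ => ?_
  have : z / y0 ∈ R := by rw [hR]; trivial
  have := this y0 hy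
  rwa [div_mul_cancel₀ _ hy0] at this

/-- a generator of the norm-one group -/
theorem exists_norm_one_gen : ∃ ζ : F, ζ * ζ ^ q = 1 ∧ ζ ^ q ≠ ζ ∧ ζ ≠ 0 ∧ orderOf ζ = q + 1 := by
  classical
  have hq := two_le_q hF
  obtain ⟨b, hb⟩ := IsCyclic.exists_generator (α := Fˣ)
  have hob : orderOf b = q ^ 2 - 1 := by
    rw [orderOf_eq_card_of_forall_mem_zpowers hb, Nat.card_eq_fintype_card, Fintype.card_units, hF]
  have hsq : q ^ 2 - 1 = (q + 1) * (q - 1) := by rw [← Nat.sq_sub_sq, one_pow]
  have ho : orderOf (b ^ (q - 1)) = q + 1 := by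
    rw [orderOf_pow' _ (by omega), hob, hsq, Nat.gcd_eq_right (Dvd.intro_left _ rfl),
      Nat.mul_div_cancel _ (by omega)]
  set ζu : Fˣ := b ^ (q - 1)
  have hζ : orderOf (ζu : F) = q + 1 := by rw [orderOf_units, ho]
  have hN : (ζu : F) * (ζu : F) ^ q = 1 := by
    rw [← pow_succ', ← hζ, pow_orderOf_eq_one]
  refine ⟨(ζu : F), hN, fun h => ?_, ζu.ne_zero, hζ⟩
  rw [h] at hN
  have : orderOf (ζu : F) ∣ 2 := orderOf_dvd_of_pow_eq_one (by rw [sq, hN])
  rw [hζ] at this
  have := Nat.le_of_dvd (by norm_num) this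
  omega

end Cfsg.Agent.SUThreeRegUnip
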