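import Cfsg.Agent.SUThreeRegUnip.Ops

/-!
A Witt frame, a regular unipotent element and Weyl elements in `SU_{2m+1}(q)`.
-/

set_option autoImplicit false

namespace Cfsg.Agent.SUThreeRegUnip

open Matrix Cfsg.Agent.Unitary

variable {F : Type*} [Field F] [Fintype F] {m q : ℕ}

/-- coordinates outside the pair `k` -/
def pairC (m k : ℕ) : Finset (Fin (2 * m + 1)) :=
  Finset.univ.filter fun i => i.val ≠ 2 * k ∧ i.val ≠ 2 * k + 1

/-- coordinates below `2 k` -/
def tail (m k : ℕ) : Finset (Fin (2 * m + 1)) := Finset.univ.filter fun i => i.val < 2 * k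

theorem herm_eq_zero_of_supp (hF : Fintype.card F = q ^ 2) {S T : Finset (Fin (2 * m + 1))}
    (h : ∀ i, i ∈ S ∨ i ∈ T) {x y : Fin (2 * m + 1) → F} (hx : x ∈ supp S) (hy : y ∈ supp T) :
    herm q x y = 0 := by
  refine Finset.sum_eq_zero fun i _ => ?_
  rcases h i with hi | hi
  · rw [hx i hi, zero_mul]
  · rw [hy i hi, zero_pow_q hF, mul_zero]

/-- a Witt frame adapted to the coordinates -/
structure Fr (F : Type*) [Field F] [Fintype F] (m q : ℕ) where
  θ : F
  ee : ℕ → Fin (2 * m + 1) → F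
  ff : ℕ → Fin (2 * m + 1) → F
  hθ : θ ≠ 0
  trθ : θ + θ ^ q = 0
  ee_le : ∀ k, m ≤ k → ee k = 0
  ff_le : ∀ k, m ≤ k → ff k = 0
  ee_pair : ∀ k, ee k ∈ supp (pairC m k)
  ff_pair : ∀ k, ff k ∈ supp (pairC m k)
  ee_self : ∀ k, herm q (ee k) (ee k) = 0
  ff_self : ∀ k, herm q (ff k) (ff k) = 0
  fe_self : ∀ k, k < m → herm q (ff k) (ee k) = θ

theorem exists_frame (hF : Fintype.card F = q ^ 2) : Nonempty (Fr F m q) := by
  classical
  obtain ⟨θ, hθ, trθ⟩ := exists_trace_zero_ne_zero hF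
  have key : ∀ k, ∃ u v : Fin (2 * m + 1) → F, (m ≤ k → u = 0 ∧ v = 0) ∧ u ∈ supp (pairC m k) ∧
      v ∈ supp (pairC m k) ∧ herm q u u = 0 ∧ herm q v v = 0 ∧ (k < m → herm q u v = 1) := by
    intro k
    by_cases hk : k < m
    · have hij : (⟨2 * k, by omega⟩ : Fin (2 * m + 1)) ≠ ⟨2 * k + 1, by omega⟩ := by
        simp [Fin.ext_iff]
      obtain ⟨u, v, hu, hv, huu, hvv, huv⟩ := exists_std_pair hF hij
      have e : ({⟨2 * k, by omega⟩, ⟨2 * k + 1, by omega⟩} : Finset (Fin (2 * m + 1)))ᶜ = pairC m k := by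
        ext i; simp [pairC, Fin.ext_iff]
      rw [e] at hu hv
      exact ⟨u, v, fun h => absurd h (by omega), hu, hv, huu, hvv, fun _ => huv⟩
    · exact ⟨0, 0, fun _ => ⟨rfl, rfl⟩, zero_mem _, zero_mem _, herm_zero_left _, herm_zero_left _,
        fun h => absurd h hk⟩
  choose u v hz hu hv huu hvv huv using key
  exact ⟨⟨θ, v, fun k => θ • u k, hθ, trθ, fun k h => (hz k h).2,
    fun k h => by rw [(hz k h).1, smul_zero], hv, fun k => Submodule.smul_mem _ _ (hu k), hvv,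
    fun k => by rw [herm_smul_left, herm_smul_right hF, huu, mul_zero, mul_zero],
    fun k h => by rw [herm_smul_left, huv k h, mul_one]⟩⟩

namespace Fr

variable (B : Fr F m q) (hF : Fintype.card F = q ^ 2)

/-- the anisotropic vector -/
def gg (_ : Fr F m q) : Fin (2 * m + 1) → F := eI (Fin.last (2 * m))

theorem theta_q : B.θ ^ q = -B.θ := eq_neg_of_add_eq_zero_right B.trθ

theorem inv_theta_q : B.θ⁻¹ ^ q = -B.θ⁻¹ := by rw [inv_pow, B.theta_q, inv_neg]

theorem inv_theta_tr : B.θ⁻¹ + B.θ⁻¹ ^ q = 0 := by rw [B.inv_theta_q, add_neg_cancel]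

theorem gg_mem_tail {k : ℕ} (hk : k ≤ m) : B.gg ∈ supp (tail m k) :=
  eI_mem_supp (by simp [tail]; omega)

theorem ee_tail {j k : ℕ} (h : k ≤ j) : B.ee j ∈ supp (tail m k) :=
  supp_anti (fun i hi => by simp [tail, pairC] at hi ⊢; omega) (B.ee_pair j)

theorem ff_tail {j k : ℕ} (h : k ≤ j) : B.ff j ∈ supp (tail m k) :=
  supp_anti (fun i hi => by simp [tail, pairC] at hi ⊢; omega) (B.ff_pair j)

include hF

theorem ef_self {k : ℕ} (hk : k < m) : herm q (B.ee k) (B.ff k) = -B.θ := by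
  rw [herm_swap hF, B.fe_self k hk, B.theta_q]

theorem h_ee (i j : ℕ) : herm q (B.ee i) (B.ee j) = 0 := by
  by_cases h : i = j
  · subst h; exact B.ee_self i
  · exact herm_eq_zero_of_supp hF (fun l => by simp [pairC]; omega) (B.ee_pair i) (B.ee_pair j)

theorem h_ff (i j : ℕ) : herm q (B.ff i) (B.ff j) = 0 := by
  by_cases h : i = j
  · subst h; exact B.ff_self i
  · exact herm_eq_zero_of_supp hF (fun l => by simp [pairC]; omega) (B.ff_pair i) (B.ff_pair j)

theorem h_fe_ne {i j : ℕ} (h : i ≠ j) : herm q (B.ff i) (B.ee j) = 0 :=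
  herm_eq_zero_of_supp hF (fun l => by simp [pairC]; omega) (B.ff_pair i) (B.ee_pair j)

theorem h_ef_ne {i j : ℕ} (h : i ≠ j) : herm q (B.ee i) (B.ff j) = 0 :=
  herm_eq_zero_of_supp hF (fun l => by simp [pairC]; omega) (B.ee_pair i) (B.ff_pair j)

theorem h_eg (i : ℕ) : herm q (B.ee i) B.gg = 0 := by
  rw [gg, herm_eI_right hF]
  by_cases h : i < m
  · exact B.ee_pair i _ (by simp [pairC]; omega)
  · simp [B.ee_le i (by omega)]

theorem h_fg (i : ℕ) : herm q (B.ff i) B.gg = 0 := by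
  rw [gg, herm_eI_right hF]
  by_cases h : i < m
  · exact B.ff_pair i _ (by simp [pairC]; omega)
  · simp [B.ff_le i (by omega)]

theorem h_ge (i : ℕ) : herm q B.gg (B.ee i) = 0 := (herm_eq_zero_comm hF).1 (B.h_eg hF i)

theorem h_gf (i : ℕ) : herm q B.gg (B.ff i) = 0 := (herm_eq_zero_comm hF).1 (B.h_fg hF i)

theorem h_gg : herm q B.gg B.gg = 1 := by rw [gg, herm_eI_eI hF, if_pos rfl]

theorem orth_tail {k : ℕ} {x : Fin (2 * m + 1) → F} (hx : x ∈ supp (tail m (k + 1))) {j : ℕ}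
    (hj : j ≤ k) : herm q x (B.ee j) = 0 ∧ herm q x (B.ff j) = 0 :=
  ⟨herm_eq_zero_of_supp hF (fun l => by simp [tail, pairC]; omega) hx (B.ee_pair j),
   herm_eq_zero_of_supp hF (fun l => by simp [tail, pairC]; omega) hx (B.ff_pair j)⟩

theorem split {k : ℕ} (hk : k < m) {x : Fin (2 * m + 1) → F} (hx : x ∈ supp (tail m k)) :
    ∃ α σ : F, x - α • B.ee k - σ • B.ff k ∈ supp (tail m (k + 1)) := by
  classical
  set i : Fin (2 * m + 1) := ⟨2 * k, by omega⟩
  set j : Fin (2 * m + 1) := ⟨2 * k + 1, by omega⟩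
  set x0 : Fin (2 * m + 1) → F := fun l => if l ∈ pairC m k then 0 else x l with hx0
  have hx0S : x0 ∈ supp (pairC m k) := fun l hl => by simp [hx0, hl]
  have hc : ∀ l, l ∉ pairC m k → l = i ∨ l = j := fun l hl => by
    simp [pairC, i, j, Fin.ext_iff] at hl ⊢; omega
  have h := eq_pair_combination hF (show i ≠ j by simp [i, j, Fin.ext_iff]) hc
    (by simp [pairC, i]) (by simp [pairC, j]) (u := B.θ⁻¹ • B.ff k) (v := B.ee k)
    (Submodule.smul_mem _ _ (B.ff_pair k)) (B.ee_pair k)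
    (by rw [herm_smul_left, herm_smul_right hF, B.ff_self, mul_zero, mul_zero]) (B.ee_self k)
    (by rw [herm_smul_left, B.fe_self k hk, inv_mul_cancel₀ B.hθ]) hx0S
  refine ⟨herm q x0 (B.θ⁻¹ • B.ff k), herm q x0 (B.ee k) * B.θ⁻¹, fun l hl => ?_⟩
  have hl' : l.val < 2 * (k + 1) := by simpa [tail] using hl
  simp only [Pi.sub_apply, Pi.smul_apply, smul_eq_mul]
  by_cases hp : l ∈ pairC m k
  · rw [B.ee_pair k l hp, B.ff_pair k l hp, hx l (by simp [pairC, tail] at hp ⊢; omega)]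
    ring
  · have := congrFun h l
    simp only [hx0, if_neg hp, Pi.add_apply, Pi.smul_apply, smul_eq_mul] at this
    rw [← hx0] at this
    linear_combination this

theorem span_top {K : Submodule F (Fin (2 * m + 1) → F)} (he : ∀ k, B.ee k ∈ K)
    (hf : ∀ k, B.ff k ∈ K) (hg : B.gg ∈ K) (x : Fin (2 * m + 1) → F) : x ∈ K := by
  have key : ∀ d k, k + d = m → ∀ y ∈ supp (tail m k), y ∈ K := by
    intro d
    induction d with
    | zero =>
      intro k hk y hy
      have e : y = y (Fin.last (2 * m)) • B.gg := by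
        funext l
        by_cases hl : l = Fin.last (2 * m)
        · subst hl; simp [gg, eI]
        · have : l.val < 2 * m := by
            have := l.isLt
            have : l.val ≠ 2 * m := fun e => hl (Fin.ext e)
            omega
          simp [gg, eI, hl, hy l (by simp [tail]; omega)]
      rw [e]; exact K.smul_mem _ hg
    | succ d ih =>
      intro k hk y hy
      obtain ⟨α, σ, h⟩ := B.split hF (show k < m by omega) hy
      have := ih (k + 1) (by omega) _ h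
      have e : y = (y - α • B.ee k - σ • B.ff k) + α • B.ee k + σ • B.ff k := by abel
      rw [e]
      exact K.add_mem (K.add_mem this (K.smul_mem _ (he k))) (K.smul_mem _ (hf k))
  exact key m 0 (by omega) x (fun l hl => by simp [tail] at hl)

/-! ### the regular element -/

/-- the shear `f k ↦ f k + f (k+1)`, `e (k+1) ↦ e (k+1) - e k` -/
noncomputable def shUp (k : ℕ) : SU (2 * m + 1) F q :=
  QQ hF (B.ee k) (B.θ⁻¹ • B.ff (k + 1)) 0

theorem shUp_smul (k : ℕ) (x : Fin (2 * m + 1) → F) :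
    B.shUp hF k • x = x + (herm q x (B.ee k) * B.θ⁻¹) • B.ff (k + 1) +
      (B.θ⁻¹ * herm q x (B.ff (k + 1))) • B.ee k := by
  rw [shUp, QQ_smul hF (B.ee_self k) (by rw [herm_smul_left, B.h_fe_ne hF (by omega), mul_zero])
    (by rw [herm_smul_left, herm_smul_right hF, B.ff_self, zero_pow_q hF]; ring),
    herm_smul_right hF, B.inv_theta_q]
  module

theorem shUp_ee {k i : ℕ} (h : i ≠ k + 1) : B.shUp hF k • B.ee i = B.ee i := by
  simp [B.shUp_smul hF, B.h_ee hF, B.h_ef_ne hF h]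

theorem shUp_ff {k i : ℕ} (h : i ≠ k) : B.shUp hF k • B.ff i = B.ff i := by
  simp [B.shUp_smul hF, B.h_ff hF, B.h_fe_ne hF h]

theorem shUp_gg (k : ℕ) : B.shUp hF k • B.gg = B.gg := by
  simp [B.shUp_smul hF, B.h_ge hF, B.h_gf hF]

theorem shUp_ee_self {k : ℕ} (h : k + 1 < m) :
    B.shUp hF k • B.ee (k + 1) = B.ee (k + 1) - B.ee k := by
  simp [B.shUp_smul hF, B.h_ee hF, B.ef_self hF h, B.hθ]
  abel

theorem shUp_ff_self {k : ℕ} (h : k < m) :
    B.shUp hF k • B.ff k = B.ff k + B.ff (k + 1) := by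
  simp [B.shUp_smul hF, B.h_ff hF, B.fe_self k h, B.hθ]

/-- partial products of shears -/
noncomputable def lev : ℕ → SU (2 * m + 1) F q
  | 0 => 1
  | k + 1 => lev k * B.shUp hF k

theorem lev_fix (k : ℕ) : (∀ i, k < i ∨ i = 0 → B.lev hF k • B.ee i = B.ee i) ∧
    (∀ i, k ≤ i → B.lev hF k • B.ff i = B.ff i) ∧ B.lev hF k • B.gg = B.gg := by
  induction k with
  | zero => simp [lev]
  | succ k ih =>
    obtain ⟨h1, h2, h3⟩ := ih
    refine ⟨fun i hi => ?_, fun i hi => ?_, ?_⟩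
    · rw [lev, mul_smul, B.shUp_ee hF (by omega), h1 i (by omega)]
    · rw [lev, mul_smul, B.shUp_ff hF (by omega), h2 i (by omega)]
    · rw [lev, mul_smul, B.shUp_gg hF, h3]

theorem lev_ff (k : ℕ) : ∀ i, i < k → i < m → B.lev hF k • B.ff i = B.ff i + B.ff (i + 1) := by
  induction k with
  | zero => intro i h; omega
  | succ k ih =>
    intro i hi hn
    rw [lev, mul_smul]
    rcases Nat.lt_succ_iff_lt_or_eq.1 hi with h | rfl
    · rw [B.shUp_ff hF (by omega), ih i h hn]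
    · rw [B.shUp_ff_self hF hn, smul_add, (B.lev_fix hF i).2.1 i le_rfl,
        (B.lev_fix hF i).2.1 (i + 1) (by omega)]

theorem lev_ee (k : ℕ) : ∀ i, i < k → i + 1 < m →
    B.lev hF k • (B.ee (i + 1) + B.ee i) = B.ee (i + 1) := by
  induction k with
  | zero => intro i h; omega
  | succ k ih =>
    intro i hi hn
    rw [lev, mul_smul, smul_add]
    rcases Nat.lt_succ_iff_lt_or_eq.1 hi with h | rfl
    · rw [B.shUp_ee hF (by omega), B.shUp_ee hF (by omega), ih i h hn]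
    · rw [B.shUp_ee_self hF hn, B.shUp_ee hF (by omega), sub_add_cancel,
        (B.lev_fix hF i).1 (i + 1) (by omega)]

/-- the Levi part -/
noncomputable def levi : SU (2 * m + 1) F q := B.lev hF (m - 1)

/-- the unitary part of the regular element -/
noncomputable def top (a β : F) : SU (2 * m + 1) F q := QQ hF (B.ee (m - 1)) (a • B.gg) β

variable {a β : F}

omit hF in
/-- the regular unipotent element -/
noncomputable def reg (a β : F) : SU (2 * m + 1) F q := B.levi hF * B.top hF a β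

section

variable (hb : β + β ^ q = -(a * a ^ q))

theorem top_fix {x : Fin (2 * m + 1) → F} (h1 : herm q x (B.ee (m - 1)) = 0)
    (h2 : herm q x B.gg = 0) : B.top hF a β • x = x :=
  QQ_fix hF β h1 (by rw [herm_smul_right hF, h2, mul_zero])

include hb

theorem top_conds : herm q (a • B.gg) (B.ee (m - 1)) = 0 ∧
    β + β ^ q = -herm q (a • B.gg) (a • B.gg) := by
  refine ⟨by rw [herm_smul_left, B.h_ge hF, mul_zero], ?_⟩
  rw [herm_smul_left, herm_smul_right hF, B.h_gg hF, hb]; ring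

theorem top_gg : B.top hF a β • B.gg = B.gg - a ^ q • B.ee (m - 1) := by
  obtain ⟨h1, h2⟩ := B.top_conds hF hb
  rw [top, QQ_smul hF (B.ee_self _) h1 h2, B.h_ge hF, herm_smul_right hF, B.h_gg hF]
  simp [sub_eq_add_neg]

theorem top_ff (hm : 0 < m) : B.top hF a β • B.ff (m - 1) =
    B.ff (m - 1) + (B.θ * a) • B.gg + (B.θ * β) • B.ee (m - 1) := by
  obtain ⟨h1, h2⟩ := B.top_conds hF hb
  rw [top, QQ_smul hF (B.ee_self _) h1 h2, B.fe_self _ (by omega), herm_smul_right hF, B.h_fg hF]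
  module

theorem reg_gg : B.reg hF a β • B.gg = B.gg - a ^ q • (B.levi hF • B.ee (m - 1)) := by
  rw [reg, mul_smul, B.top_gg hF hb, smul_sub, smul_comm (B.levi hF) (a ^ q), levi,
    (B.lev_fix hF _).2.2]

theorem reg_ff_last (hm : 0 < m) : B.reg hF a β • B.ff (m - 1) =
    B.ff (m - 1) + (B.θ * a) • B.gg + (B.θ * β) • (B.levi hF • B.ee (m - 1)) := by
  rw [reg, mul_smul, B.top_ff hF hb hm, smul_add, smul_add, smul_comm (B.levi hF) (B.θ * a),
    smul_comm (B.levi hF) (B.θ * β), levi, (B.lev_fix hF _).2.2, (B.lev_fix hF _).2.1 _ le_rfl]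

end

theorem reg_ee (i : ℕ) : B.reg hF a β • B.ee i = B.levi hF • B.ee i := by
  rw [reg, mul_smul, B.top_fix hF (B.h_ee hF _ _) (B.h_eg hF i)]

theorem reg_ee_zero : B.reg hF a β • B.ee 0 = B.ee 0 := by
  rw [B.reg_ee hF, levi, (B.lev_fix hF _).1 0 (Or.inr rfl)]

theorem reg_ee_add {i : ℕ} (h : i + 1 < m) :
    B.reg hF a β • (B.ee (i + 1) + B.ee i) = B.ee (i + 1) := by
  rw [smul_add, B.reg_ee hF, B.reg_ee hF, ← smul_add, levi, B.lev_ee hF _ i (by omega) h]

theorem reg_ff {i : ℕ} (h : i + 1 < m) : B.reg hF a β • B.ff i = B.ff i + B.ff (i + 1) := by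
  rw [reg, mul_smul, B.top_fix hF (B.h_fe_ne hF (by omega)) (B.h_fg hF i), levi,
    B.lev_ff hF _ i (by omega) (by omega)]

/-! ### regularity -/

omit hF in
/-- `reg - 1` as a matrix -/
noncomputable def nil (a β : F) : Matrix (Fin (2 * m + 1)) (Fin (2 * m + 1)) F :=
  ((B.reg hF a β : Matrix.SpecialLinearGroup (Fin (2 * m + 1)) F) :
    Matrix (Fin (2 * m + 1)) (Fin (2 * m + 1)) F) - 1

theorem nil_mulVec (x : Fin (2 * m + 1) → F) :
    B.nil hF a β *ᵥ x = B.reg hF a β • x - x := by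
  rw [nil, Matrix.sub_mulVec, Matrix.one_mulVec]; rfl

theorem nil_succ (k : ℕ) (x : Fin (2 * m + 1) → F) :
    B.nil hF a β ^ (k + 1) *ᵥ x = B.nil hF a β ^ k *ᵥ (B.nil hF a β *ᵥ x) := by
  rw [Matrix.mulVec_mulVec, pow_succ]

theorem nil_mono {i j : ℕ} (hij : i ≤ j) {x : Fin (2 * m + 1) → F}
    (h : B.nil hF a β ^ i *ᵥ x = 0) : B.nil hF a β ^ j *ᵥ x = 0 := by
  obtain ⟨c, rfl⟩ := Nat.exists_eq_add_of_le hij
  rw [pow_add, (Commute.pow_pow_self _ i c).eq, ← Matrix.mulVec_mulVec, h, Matrix.mulVec_zero]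

theorem nil_ee (i : ℕ) : i < m → B.nil hF a β ^ (i + 1) *ᵥ B.ee i = 0 ∧
    B.nil hF a β ^ i *ᵥ B.ee i = (-1 : F) ^ i • B.ee 0 := by
  induction i with
  | zero => intro _; simp [B.nil_mulVec hF, B.reg_ee_zero hF]
  | succ i ih =>
    intro h
    obtain ⟨h1, h2⟩ := ih (by omega)
    have e : B.nil hF a β *ᵥ B.ee (i + 1) = -(B.ee i + B.nil hF a β *ᵥ B.ee i) := by
      have := B.reg_ee_add (a := a) (β := β) hF h
      rw [smul_add] at this
      rw [B.nil_mulVec hF, B.nil_mulVec hF, eq_sub_of_add_eq this]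
      abel
    have h3 : B.nil hF a β ^ (i + 1) *ᵥ (B.nil hF a β *ᵥ B.ee i) = 0 := by
      rw [← B.nil_succ hF]; exact B.nil_mono hF (Nat.le_succ _) h1
    constructor
    · rw [B.nil_succ hF, e, Matrix.mulVec_neg, Matrix.mulVec_add, h1, h3, add_zero, neg_zero]
    · rw [B.nil_succ hF, e, Matrix.mulVec_neg, Matrix.mulVec_add, h2, ← B.nil_succ hF, h1, add_zero,
        pow_succ, mul_neg, mul_one, neg_smul]

theorem nil_levi (hm : 0 < m) : B.nil hF a β ^ m *ᵥ (B.levi hF • B.ee (m - 1)) = 0 ∧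
    B.nil hF a β ^ (m - 1) *ᵥ (B.levi hF • B.ee (m - 1)) = (-1 : F) ^ (m - 1) • B.ee 0 := by
  obtain ⟨h1, h2⟩ := B.nil_ee (a := a) (β := β) hF (m - 1) (by omega)
  have e : B.levi hF • B.ee (m - 1) = B.ee (m - 1) + B.nil hF a β *ᵥ B.ee (m - 1) := by
    rw [B.nil_mulVec hF, B.reg_ee hF]; abel
  have h3 : B.nil hF a β ^ m *ᵥ B.ee (m - 1) = 0 := by
    rwa [show m - 1 + 1 = m by omega] at h1
  constructor
  · rw [e, Matrix.mulVec_add, h3, ← B.nil_succ hF, B.nil_mono hF (Nat.le_succ _) h3, add_zero]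
  · rw [e, Matrix.mulVec_add, h2, ← B.nil_succ hF, show m - 1 + 1 = m by omega, h3, add_zero]

theorem nil_chain : ∀ d i : ℕ, i + d < m → B.nil hF a β ^ d *ᵥ B.ff i = B.ff (i + d) := by
  intro d
  induction d with
  | zero => intro i _; simp
  | succ d ih =>
    intro i h
    rw [B.nil_succ hF, B.nil_mulVec hF, B.reg_ff hF (by omega), add_sub_cancel_left,
      ih (i + 1) (by omega)]
    congr 1; omega

variable (hb : β + β ^ q = -(a * a ^ q))
include hb

theorem nil_gg (hm : 0 < m) : B.nil hF a β ^ (m + 1) *ᵥ B.gg = 0 ∧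
    B.nil hF a β ^ m *ᵥ B.gg = (-(a ^ q) * (-1) ^ (m - 1)) • B.ee 0 := by
  obtain ⟨h1, h2⟩ := B.nil_levi (a := a) (β := β) hF hm
  have e : B.nil hF a β *ᵥ B.gg = (-(a ^ q)) • (B.levi hF • B.ee (m - 1)) := by
    rw [B.nil_mulVec hF, B.reg_gg hF hb, neg_smul]; abel
  constructor
  · rw [B.nil_succ hF, e, Matrix.mulVec_smul, h1, smul_zero]
  · rw [show B.nil hF a β ^ m = B.nil hF a β ^ (m - 1 + 1) by congr 1; omega, B.nil_succ hF, e, Matrix.mulVec_smul, h2, smul_smul]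

theorem nil_top (hm : 0 < m) : B.nil hF a β ^ (m + 2) *ᵥ B.ff (m - 1) = 0 ∧
    B.nil hF a β ^ (m + 1) *ᵥ B.ff (m - 1) =
      (B.θ * a * (-(a ^ q) * (-1) ^ (m - 1))) • B.ee 0 := by
  obtain ⟨g1, g2⟩ := B.nil_gg hF hb hm
  obtain ⟨l1, -⟩ := B.nil_levi (a := a) (β := β) hF hm
  have e : B.nil hF a β *ᵥ B.ff (m - 1) =
      (B.θ * a) • B.gg + (B.θ * β) • (B.levi hF • B.ee (m - 1)) := by
    rw [B.nil_mulVec hF, B.reg_ff_last hF hb hm]; abel
  constructor
  · rw [B.nil_succ hF, e, Matrix.mulVec_add, Matrix.mulVec_smul, Matrix.mulVec_smul, g1,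
      B.nil_mono hF (Nat.le_succ _) l1]
    simp
  · rw [B.nil_succ hF, e, Matrix.mulVec_add, Matrix.mulVec_smul, Matrix.mulVec_smul, g2, l1,
      smul_smul, smul_zero, add_zero]

theorem nil_isNilpotent (hm : 0 < m) : IsNilpotent (B.nil hF a β) := by
  refine ⟨2 * m + 1, Matrix.ext_of_mulVec_single fun j => ?_⟩
  rw [Matrix.zero_mulVec]
  refine B.span_top hF (K := LinearMap.ker (Matrix.toLin' (B.nil hF a β ^ (2 * m + 1))))
    (fun k => ?_) (fun k => ?_) ?_ (Pi.single j 1)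
  · rw [LinearMap.mem_ker, Matrix.toLin'_apply]
    by_cases hk : k < m
    · exact B.nil_mono hF (by omega) (B.nil_ee hF k hk).1
    · rw [B.ee_le k (by omega), Matrix.mulVec_zero]
  · rw [LinearMap.mem_ker, Matrix.toLin'_apply]
    by_cases hk : k < m
    · refine B.nil_mono hF (i := m + 2 + (m - 1 - k)) (by omega) ?_
      rw [pow_add, ← Matrix.mulVec_mulVec, B.nil_chain hF _ _ (by omega),
        show k + (m - 1 - k) = m - 1 by omega, (B.nil_top hF hb hm).1]
    · rw [B.ff_le k (by omega), Matrix.mulVec_zero]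
  · rw [LinearMap.mem_ker, Matrix.toLin'_apply]
    exact B.nil_mono hF (by omega) (B.nil_gg hF hb hm).1

theorem nil_pow_ne_zero (hm : 0 < m) (ha : a ≠ 0) : B.nil hF a β ^ (2 * m) ≠ 0 := by
  intro h0
  have h1 : B.nil hF a β ^ (2 * m) *ᵥ B.ff 0 =
      (B.θ * a * (-(a ^ q) * (-1) ^ (m - 1))) • B.ee 0 := by
    rw [show B.nil hF a β ^ (2 * m) = B.nil hF a β ^ ((m + 1) + (m - 1)) by congr 1; omega, pow_add, ← Matrix.mulVec_mulVec,
      B.nil_chain hF _ _ (by omega), zero_add, (B.nil_top hF hb hm).2]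
  rw [h0, Matrix.zero_mulVec] at h1
  rcases smul_eq_zero.1 h1.symm with h | h
  · simp [B.hθ, ha, pow_q_eq_zero_iff hF] at h
  · have := B.fe_self 0 hm
    rw [h, herm_zero_right hF] at this
    exact B.hθ this.symm

omit hb

/-! ### Weyl elements -/

/-- the Weyl element of the pair `k` -/
noncomputable def weyl (k : ℕ) : SU (2 * m + 1) F q :=
  TT hF (B.ee k) B.θ⁻¹ * TT hF (B.ff k) B.θ⁻¹ * TT hF (B.ee k) B.θ⁻¹

theorem weyl_self {k : ℕ} (hk : k < m) :
    B.weyl hF k • B.ee k = -B.ff k ∧ B.weyl hF k • B.ff k = B.ee k := by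
  constructor <;>
  · simp [weyl, mul_smul, TT_smul hF (B.ee_self k) B.inv_theta_tr,
      TT_smul hF (B.ff_self k) B.inv_theta_tr, herm_add_left, herm_smul_left, herm_neg_left,
      herm_sub_left, B.ef_self hF hk, B.fe_self k hk, B.ee_self, B.ff_self, B.hθ]

theorem weyl_fix {k : ℕ} {x : Fin (2 * m + 1) → F} (h1 : herm q x (B.ee k) = 0)
    (h2 : herm q x (B.ff k) = 0) : B.weyl hF k • x = x := by
  rw [weyl, mul_smul, mul_smul, TT_fix hF _ h1, TT_fix hF _ h2, TT_fix hF _ h1]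

/-- partial products of Weyl elements -/
noncomputable def jp : ℕ → SU (2 * m + 1) F q
  | 0 => 1
  | k + 1 => jp k * B.weyl hF k

theorem jp_spec (k : ℕ) : (∀ i, i < m →
    (i < k → B.jp hF k • B.ee i = -B.ff i ∧ B.jp hF k • B.ff i = B.ee i) ∧
    (k ≤ i → B.jp hF k • B.ee i = B.ee i ∧ B.jp hF k • B.ff i = B.ff i)) ∧
    B.jp hF k • B.gg = B.gg := by
  induction k with
  | zero => exact ⟨fun i _ => ⟨by omega, fun _ => ⟨one_smul _ _, one_smul _ _⟩⟩, one_smul _ _⟩
  | succ k ih =>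
    refine ⟨fun i hn => ?_, by
      rw [jp, mul_smul, B.weyl_fix hF (B.h_ge hF _) (B.h_gf hF _), ih.2]⟩
    obtain ⟨h1, h2⟩ := ih.1 i hn
    refine ⟨fun hi => ?_, fun hi => ?_⟩
    · rcases Nat.lt_succ_iff_lt_or_eq.1 hi with h | rfl
      · rw [jp, mul_smul, mul_smul, B.weyl_fix hF (B.h_ee hF _ _) (B.h_ef_ne hF (by omega)),
          B.weyl_fix hF (B.h_fe_ne hF (by omega)) (B.h_ff hF _ _)]
        exact h1 h
      · rw [jp, mul_smul, mul_smul, (B.weyl_self hF hn).1, (B.weyl_self hF hn).2, smul_neg,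
          (h2 le_rfl).1, (h2 le_rfl).2]
        exact ⟨rfl, rfl⟩
    · rw [jp, mul_smul, mul_smul, B.weyl_fix hF (B.h_ee hF _ _) (B.h_ef_ne hF (by omega)),
        B.weyl_fix hF (B.h_fe_ne hF (by omega)) (B.h_ff hF _ _)]
      exact h2 (by omega)

/-- the product of all Weyl elements of pairs -/
noncomputable def weylJ : SU (2 * m + 1) F q := B.jp hF m

theorem weylJ_ee (i : ℕ) : B.weylJ hF • B.ee i = -B.ff i := by
  by_cases h : i < m
  · exact (((B.jp_spec hF m).1 i h).1 h).1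
  · simp [B.ee_le i (by omega), B.ff_le i (by omega)]

theorem weylJ_ff (i : ℕ) : B.weylJ hF • B.ff i = B.ee i := by
  by_cases h : i < m
  · exact (((B.jp_spec hF m).1 i h).1 h).2
  · simp [B.ee_le i (by omega), B.ff_le i (by omega)]

theorem weylJ_gg : B.weylJ hF • B.gg = B.gg := (B.jp_spec hF m).2

end Fr

end Cfsg.Agent.SUThreeRegUnip
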