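import Cfsg.Agent.SUThreeRegUnip.FieldAux

/-!
Three conjugate regular unipotent elements generating `SU_{2m+1}(q)`, `m ≥ 2`.
-/

set_option autoImplicit false

namespace Cfsg.Agent.SUThreeRegUnip

open Matrix Cfsg.Agent.Unitary

variable {F : Type*} [Field F] [Fintype F] {m q : ℕ} (hF : Fintype.card F = q ^ 2)

theorem TT_neg {n : ℕ} {v : Fin n → F} (hv : herm q v v = 0) {c : F} (hc : c + c ^ q = 0) :
    TT hF (-v) c = TT hF v c := by
  have := TT_scale hF hv (-1) hc
  rwa [neg_one_smul, neg_pow_q hF, one_pow, show (-1 : F) * -1 * c = c by ring] at this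

theorem QQ_pair {n : ℕ} {u v : Fin n → F} (hu : herm q u u = 0) (hv : herm q v v = 0)
    (huv : herm q u v = 0) (s : F) :
    QQ hF (u + v) (s • v) 0 = QQ hF u (s • v) 0 * TT hF v (s - s ^ q) := by
  have hvu : herm q v u = 0 := (herm_eq_zero_comm hF).1 huv
  have h0 : (0 : F) + 0 ^ q = -herm q (s • v) (s • v) := by
    rw [herm_smul_left, herm_smul_right hF, hv, zero_pow_q hF]; ring
  have h1 : herm q (u + v) (u + v) = 0 := by
    simp [herm_add_left, herm_add_right hF, hu, hv, huv, hvu]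
  have h2 : herm q (s • v) (u + v) = 0 := by
    simp [herm_smul_left, herm_add_right hF, hvu, hv]
  have h3 : herm q (s • v) u = 0 := by simp [herm_smul_left, hvu]
  refine eq_of_smul_eq_SU fun x => ?_
  simp only [mul_smul, QQ_smul hF h1 h2 h0, QQ_smul hF hu h3 h0, TT_smul hF hv (sub_pow_tr hF s),
    herm_add_left, herm_smul_left, herm_add_right hF, herm_smul_right hF, hu, hv, huv, hvu]
  module

variable (B : Fr F m q)

theorem tail_last {y : Fin (2 * m + 1) → F} (hy : y ∈ supp (tail m m)) :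
    y = y (Fin.last (2 * m)) • B.gg := by
  funext l
  by_cases hl : l = Fin.last (2 * m)
  · subst hl; simp [Fr.gg, eI]
  · have : l.val < 2 * m := by
      have := l.isLt
      have : l.val ≠ 2 * m := fun e => hl (Fin.ext e)
      omega
    simp [Fr.gg, eI, hl, hy l (by simp [tail]; omega)]

/-- `k u k⁻¹ u⁻¹` can be any transvection at `e 0` -/
theorem comm_reg {a β : F} (hm : 1 < m) {c : F} (hc : c + c ^ q = 0) :
    ∃ k : SU (2 * m + 1) F q,
      k * B.reg hF a β * k⁻¹ * (B.reg hF a β)⁻¹ = TT hF (B.ee 0) c := by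
  obtain ⟨z, hz⟩ := exists_sub_pow_eq hF hc
  refine ⟨QQ hF (B.ee 0) (z • B.ee 1) 0, ?_⟩
  have h0 : ∀ v : Fin (2 * m + 1) → F, herm q v v = 0 → (0 : F) + 0 ^ q = -herm q v v := fun v hv => by
    rw [hv, zero_pow_q hF]; ring
  have hz1 : herm q (z • B.ee 1) (z • B.ee 1) = 0 := by
    rw [herm_smul_left, herm_smul_right hF, B.ee_self]; ring
  have hz0 : herm q (z • B.ee 1) (B.ee 0) = 0 := by rw [herm_smul_left, B.h_ee hF, mul_zero]
  have hu1 : B.reg hF a β • B.ee 1 = B.ee 1 - B.ee 0 := by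
    have := B.reg_ee_add (a := a) (β := β) hF (show 0 + 1 < m by omega)
    rw [smul_add, B.reg_ee_zero hF] at this
    exact eq_sub_of_add_eq this
  have e : ∀ k u : SU (2 * m + 1) F q, k * u * k⁻¹ * u⁻¹ = k * (u * k⁻¹ * u⁻¹) :=
    fun k u => by group
  rw [e, QQ_inv hF (B.ee_self 0) hz0 (h0 _ hz1), hz1, neg_zero, sub_zero, QQ_conj,
    B.reg_ee_zero hF, smul_neg, smul_comm (B.reg hF a β) z, hu1]
  have h2 : herm q (-(z • (B.ee 1 - B.ee 0))) (B.ee 0) = 0 := by
    simp [herm_neg_left, herm_smul_left, herm_sub_left, B.h_ee hF]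
  have h3 : herm q (-(z • (B.ee 1 - B.ee 0))) (-(z • (B.ee 1 - B.ee 0))) = 0 := by
    simp [herm_neg_left, herm_neg_right hF, herm_smul_left, herm_smul_right hF, herm_sub_left,
      herm_sub_right hF, B.h_ee hF]
  have h4 : herm q (-(z • (B.ee 1 - B.ee 0))) (z • B.ee 1) = 0 := by
    simp [herm_neg_left, herm_smul_left, herm_smul_right hF, herm_sub_left, B.h_ee hF]
  rw [QQ_mul hF (B.ee_self 0) hz0 (h0 _ hz1) h2 (h0 _ h3), h4, add_zero, sub_zero,
    show z • B.ee 1 + -(z • (B.ee 1 - B.ee 0)) = 0 + z • B.ee 0 by module,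
    QQ_shift hF (B.ee_self 0) (herm_zero_left _) (h0 _ (herm_zero_left _)), QQ_eq_TT, zero_add, hz]

theorem large {s : ℕ} (hs : s + 2 = m) {ζ a : F} (hN : ζ * ζ ^ q = 1) (hζ : ζ ^ q ≠ ζ)
    (hord : orderOf ζ = q + 1) (ha : a * a ^ q = (ζ - ζ ^ q) / B.θ)
    {H : Subgroup (SU (2 * m + 1) F q)} (hu : B.reg hF a (-(ζ / B.θ)) ∈ H)
    (hu' : B.weylJ hF * B.reg hF a (-(ζ / B.θ)) * (B.weylJ hF)⁻¹ ∈ H)
    (h0 : TT hF (B.ff 0) B.θ⁻¹ ∈ H) : H = ⊤ := by
  classical
  set θ := B.θ with hθdef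
  have hθ0 : θ ≠ 0 := B.hθ
  have hθq : θ ^ q = -θ := B.theta_q
  set β : F := -(ζ / θ) with hβ
  set u := B.reg hF a β with hudef
  set J := B.weylJ hF with hJ
  set u' := J * u * J⁻¹ with hu'def
  set c : F := θ⁻¹ with hcdef
  have hc : c + c ^ q = 0 := B.inv_theta_tr
  have hcq : c ^ q = -c := B.inv_theta_q
  have hζ0 : ζ ≠ 0 := fun h => by simp [h] at hN
  have hβq : β ^ q = ζ ^ q / θ := by rw [hβ, neg_pow_q hF, div_pow, hθq, div_neg, neg_neg]
  have hb : β + β ^ q = -(a * a ^ q) := by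
    rw [hβq, hβ, ha]; ring
  have ha0 : a ≠ 0 := fun h => by
    rw [h, zero_mul, eq_comm, div_eq_zero_iff, sub_eq_zero] at ha
    rcases ha with ha | ha
    · exact hζ ha.symm
    · exact hθ0 ha
  have hU : ∀ i, i + 1 < m → u' • (B.ff (i + 1) + B.ff i) = B.ff (i + 1) := by
    intro i hi
    have hf : ∀ j, J⁻¹ • B.ff j = -B.ee j := fun j => by
      rw [inv_smul_eq_iff, smul_neg, hJ, B.weylJ_ee hF, neg_neg]
    rw [mul_smul, mul_smul, smul_add, hf, hf, ← neg_add, smul_neg, hudef, B.reg_ee_add hF hi,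
      ← hf, smul_inv_smul]
  have hUi : ∀ i, i + 1 < m → u • B.ff i = B.ff i + B.ff (i + 1) := fun i hi => B.reg_ff hF hi
  -- the chain
  have hchain : ∀ i, i < m → TT hF (B.ff i) c ∈ H := by
    intro i
    induction i with
    | zero => intro _; exact h0
    | succ i ih =>
      intro hi
      have h1 := (TT_mem_iff hF hu (B.ff i) c).2 (ih (by omega))
      rw [hUi i hi, add_comm (B.ff i), ← TT_mem_iff hF hu', hU i hi] at h1
      exact h1
  set P := B.ff s with hP
  set f := B.ff (s + 1) with hfdef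
  set e := B.ee (s + 1) with hedef
  set g := B.gg with hgdef
  have hs1 : s + 1 = m - 1 := by omega
  have hPP : herm q P P = 0 := B.ff_self s
  have hff : herm q f f = 0 := B.ff_self _
  have hPf : herm q P f = 0 := B.h_ff hF _ _
  have hfP : herm q f P = 0 := B.h_ff hF _ _
  have hfe : herm q f e = θ := B.fe_self _ (by omega)
  have hef : herm q e f = -θ := B.ef_self hF (by omega)
  set W : Fin (2 * m + 1) → F := f + (-(θ * a)) • g + (θ * β ^ q) • e with hW
  have huf : u • f = f + (θ * a) • g + (θ * β) • (B.levi hF • e) := by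
    rw [hudef, hfdef, hedef, hs1, B.reg_ff_last hF hb (by omega)]
  have hug : u • g = g - a ^ q • (B.levi hF • e) := by
    rw [hudef, hedef, hs1]; exact B.reg_gg hF hb
  have hue : u • e = B.levi hF • e := B.reg_ee hF _
  have huW : u • W = f := by
    rw [hW, smul_add, smul_add, smul_comm u (-(θ * a)), smul_comm u (θ * β ^ q), huf, hug, hue]
    generalize B.levi hF • e = Le
    match_scalars
    · ring
    · ring
    · linear_combination θ * hb
  have hWi : u⁻¹ • f = W := by rw [inv_smul_eq_iff, huW]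
  have hWW : herm q W W = 0 := by rw [← hWi, herm_smul_SU, hff]
  have hfW : herm q f W = θ * ζ := by
    rw [hW, herm_add_right hF, herm_add_right hF, herm_smul_right hF, herm_smul_right hF, hff, hfe,
      B.h_fg hF, mul_pow, hθq, pow_q_pow_q hF, hβ]
    field_simp
    ring
  have hWf : herm q W f = -(θ * ζ ^ q) := by rw [herm_swap hF, hfW, mul_pow, hθq]; ring
  have hPW : herm q P W = 0 := by
    simp [hW, hP, hedef, hfdef, herm_add_right hF, herm_neg_right hF, herm_smul_right hF, B.h_ff hF, B.h_fg hF, hgdef,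
      B.h_fe_ne hF (show s ≠ s + 1 by omega)]
  have hWm : TT hF W c ∈ H := by
    rw [← hWi]; exact (TT_mem_iff hF (H.inv_mem hu) f c).2 (hchain _ (by omega))
  set M := TT hF f c * TT hF W c with hM
  have hMH : M ∈ H := H.mul_mem (hchain _ (by omega)) hWm
  obtain ⟨hMf0, hMfix⟩ := two_step hF hff hWW hc hc (by
    rw [hfW, hWf, hcdef]; field_simp; linear_combination (-1 : F) * hN)
  have hMf : M • f = ζ • W := by
    rw [hM, hMf0, hfW, hcdef, ← mul_assoc, inv_mul_cancel₀ hθ0, one_mul]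
  have hMP : M • P = P := hMfix P hPf hPW
  set t := u * M with ht
  have htH : t ∈ H := H.mul_mem hu hMH
  have htf : t • f = ζ • f := by rw [ht, mul_smul, hMf, smul_comm u ζ, huW]
  have htP : t • P = P + f := by rw [ht, mul_smul, hMP, hP, hUi s (by omega)]
  have hQ0 : ∀ z : F, herm q (z • f) P = 0 := fun z => by rw [herm_smul_left, hfP, mul_zero]
  have hz0 : ∀ z : F, (0 : F) + 0 ^ q = -herm q (z • f) (z • f) := fun z => by
    rw [herm_smul_left, herm_smul_right hF, hff, zero_pow_q hF]; ring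
  have qmul : ∀ z z' : F, QQ hF P (z • f) 0 * QQ hF P (z' • f) 0 = QQ hF P ((z + z') • f) 0 := by
    intro z z'
    rw [QQ_mul hF hPP (hQ0 z) (hz0 z) (hQ0 z') (hz0 z'), ← add_smul]
    congr 1
    rw [herm_smul_left, herm_smul_right hF, hff]; ring
  have qcomm : ∀ z r : F, Commute (TT hF f r) (QQ hF P (z • f) 0) := fun z r => by
    have e1 : TT hF f r * QQ hF P (z • f) 0 * (TT hF f r)⁻¹ = QQ hF P (z • f) 0 := by
      rw [QQ_conj, TT_fix hF r hPf, smul_comm (TT hF f r) z, TT_fix hF r hff]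
    exact mul_inv_eq_iff_eq_mul.1 e1
  -- parameters on the line through `P` and `f`
  let S1 : AddSubgroup F :=
    { carrier := {z | ∃ r, r + r ^ q = 0 ∧ QQ hF P (z • f) 0 * TT hF f r ∈ H}
      zero_mem' := ⟨0, by rw [zero_pow_q hF, add_zero], by
        rw [zero_smul, QQ_zero, TT_zero, one_mul]; exact H.one_mem⟩
      add_mem' := by
        rintro z z' ⟨r, hr, h⟩ ⟨r', hr', h'⟩
        refine ⟨r + r', add_tr hF hr hr', ?_⟩
        have := H.mul_mem h h'
        rwa [mul_assoc, ← mul_assoc (TT hF f r), (qcomm z' r).eq, mul_assoc, TT_mul hF hff hr hr',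
          ← mul_assoc, qmul] at this
      neg_mem' := by
        rintro z ⟨r, hr, h⟩
        refine ⟨-r, neg_tr hF hr, ?_⟩
        have := H.inv_mem h
        rwa [_root_.mul_inv_rev, TT_inv hF hff hr, QQ_inv hF hPP (hQ0 z) (hz0 z), ← neg_smul,
          show -(0 : F) - herm q (z • f) (z • f) = 0 by
            rw [herm_smul_left, herm_smul_right hF, hff]; ring, (qcomm (-z) (-r)).eq] at this }
  have hS1c : c ∈ S1 := by
    refine ⟨0, by rw [zero_pow_q hF, add_zero], ?_⟩
    rw [TT_zero, mul_one, ← three_TT hF hPP hff hPf hc, ← TT_inv hF hPP hc, ← TT_inv hF hff hc]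
    refine H.mul_mem (H.mul_mem ?_ (H.inv_mem (hchain _ (by omega)))) (H.inv_mem (hchain _ (by omega)))
    rw [hP, hfdef, ← hUi s (by omega)]
    exact (TT_mem_iff hF hu _ c).2 (hchain _ (by omega))
  have hS1t : ∀ z r, r + r ^ q = 0 → QQ hF P (z • f) 0 * TT hF f r ∈ H →
      QQ hF P ((z * ζ) • f) 0 * TT hF f (z * ζ - (z * ζ) ^ q + r) ∈ H := by
    intro z r hr h
    have := conj_mem htH h
    rwa [show ∀ x y w : SU (2 * m + 1) F q, w * (x * y) * w⁻¹ = (w * x * w⁻¹) * (w * y * w⁻¹) from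
      fun x y w => by group, QQ_conj, TT_conj, htP, smul_comm t z, htf, smul_smul,
      QQ_pair hF hPP hff hPf, TT_scale hF hff ζ hr, hN, one_mul, mul_assoc,
      TT_mul hF hff (sub_pow_tr hF _) hr] at this
  have hS1ζ : ∀ z ∈ S1, ζ * z ∈ S1 := by
    rintro z ⟨r, hr, h⟩
    exact ⟨_, add_tr hF (sub_pow_tr hF _) hr, mul_comm ζ z ▸ hS1t z r hr h⟩
  have hS1 : S1 = ⊤ := addSubgroup_eq_top hF hS1c (inv_ne_zero hθ0) hS1ζ hζ
    (r := q + 1) (fun i hi j hj h => pow_injOn_Iio_orderOf (by simpa [hord] using hi)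
      (by simpa [hord] using hj) h) (by omega)
  have hpt : Pt hF H P := by
    intro c' hc'
    set r : F := c' / (ζ ^ q - ζ) with hr
    have hτ : ζ ^ q - ζ ≠ 0 := sub_ne_zero.2 hζ
    have hrq : r ^ q = r := by
      rw [hr, div_pow, sub_pow_q hF, pow_q_pow_q hF, eq_neg_of_add_eq_zero_right hc',
        ← neg_sub (ζ ^ q) ζ, neg_div_neg_eq]
    obtain ⟨s', hs', hmem⟩ := show r / ζ ∈ S1 by rw [hS1]; trivial
    have h2 := hS1t _ s' hs' hmem
    rw [div_mul_cancel₀ r hζ0, hrq, sub_self, zero_add] at h2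
    have hA : QQ hF P ((r - r / ζ) • f) 0 ∈ H := by
      have := H.mul_mem h2 (H.inv_mem hmem)
      rwa [_root_.mul_inv_rev, mul_assoc, mul_inv_cancel_left, show QQ hF P (r • f) 0 =
        QQ hF P ((r - r / ζ) • f) 0 * QQ hF P ((r / ζ) • f) 0 by rw [qmul, sub_add_cancel],
        mul_inv_cancel_right] at this
    obtain ⟨r0, hr0, hm0⟩ := hS1c
    have hcm : QQ hF P (c • f) 0 ∈ H := by
      rw [← three_TT hF hPP hff hPf hc, ← TT_inv hF hPP hc, ← TT_inv hF hff hc]
      refine H.mul_mem (H.mul_mem ?_ (H.inv_mem (hchain _ (by omega)))) (H.inv_mem (hchain _ (by omega)))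
      rw [hP, hfdef, ← hUi s (by omega)]
      exact (TT_mem_iff hF hu _ c).2 (hchain _ (by omega))
    have hB := conj_mem hMH hcm
    rw [QQ_conj, hMP, smul_comm M c, hMf, smul_smul] at hB
    have hB0 : (0 : F) + 0 ^ q = -herm q ((c * ζ) • W) ((c * ζ) • W) := by
      rw [herm_smul_left, herm_smul_right hF, hWW, zero_pow_q hF]; ring
    have hBP : herm q ((c * ζ) • W) P = 0 := by
      rw [herm_smul_left, (herm_eq_zero_comm hF).1 hPW, mul_zero]
    have h3 := QQ_comm hF hPP (hQ0 (r - r / ζ)) (hz0 _) hBP hB0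
    have h4 : TT hF P (herm q ((r - r / ζ) • f) ((c * ζ) • W) -
        herm q ((c * ζ) • W) ((r - r / ζ) • f)) ∈ H := by
      have := H.mul_mem (H.inv_mem (H.mul_mem hB hA)) (H.mul_mem hA hB)
      rwa [h3, inv_mul_cancel_left] at this
    have e1 : herm q ((r - r / ζ) • f) ((c * ζ) • W) = r * (ζ ^ q - 1) := by
      rw [herm_smul_left, herm_smul_right hF, hfW, mul_pow, hcq, hcdef]
      field_simp
      linear_combination (-r) * hN
    have e2 : herm q ((c * ζ) • W) ((r - r / ζ) • f) = r * (ζ - 1) := by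
      rw [herm_swap hF, e1, mul_pow, hrq, sub_pow_q hF, pow_q_pow_q hF, one_pow]
    rw [e1, e2, ← mul_sub, sub_sub_sub_cancel_right, hr, div_mul_cancel₀ _ hτ] at h4
    exact h4
  -- transports
  have pf : Pt hF H f := by
    have h1 := (pt_iff hF hu P).2 hpt
    rwa [hP, hUi s (by omega), add_comm (B.ff s), ← pt_iff hF hu', hU s (by omega)] at h1
  have pall : ∀ d, d < m → Pt hF H (B.ff (m - 1 - d)) := by
    intro d
    induction d with
    | zero => intro _; rw [Nat.sub_zero, ← hs1]; exact pf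
    | succ d ih =>
      intro hd
      have h1 := ih (by omega)
      rw [show m - 1 - d = (m - 1 - (d + 1)) + 1 by omega, ← hU _ (by omega), pt_iff hF hu',
        add_comm (B.ff (m - 1 - (d + 1) + 1)), ← hUi _ (by omega), pt_iff hF hu] at h1
      exact h1
  have pW : Pt hF H W := by rw [← hWi]; exact (pt_iff hF (H.inv_mem hu) f).2 pf
  have fR : f ∈ radSub hF (H := H) hPP := by
    intro z
    obtain ⟨r, hr, h⟩ := show z ∈ S1 by rw [hS1]; trivial
    exact ⟨0, hz0 z, hQ0 z, (H.mul_mem_cancel_right (pf r hr)).1 h⟩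
  have WR : W ∈ radSub hF (H := H) hPP := by
    have := (radSub hF (H := H) hPP).smul_mem ζ⁻¹ (radSub_conj hF hMH hPP hMP fR)
    rwa [hMf, smul_smul, inv_mul_cancel₀ hζ0, one_smul] at this
  -- a third vector
  have hJf : ∀ j, J⁻¹ • B.ff j = -B.ee j := fun j => by
    rw [inv_smul_eq_iff, smul_neg, hJ, B.weylJ_ee hF, neg_neg]
  have hJe : ∀ j, J⁻¹ • B.ee j = B.ff j := fun j => by
    rw [inv_smul_eq_iff, hJ, B.weylJ_ff hF]
  have huie : u⁻¹ • e = e + B.ee s := by
    rw [inv_smul_eq_iff, hudef, hedef, B.reg_ee_add hF (by omega)]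
  have huig : u⁻¹ • g = g + a ^ q • e := by
    rw [inv_smul_eq_iff, smul_add, smul_comm u (a ^ q), hug, hue, sub_add_cancel]
  set yU : Fin (2 * m + 1) → F := (1 + θ * (a * a ^ q) - θ * β ^ q * (θ * β ^ q)) • f +
    (-(θ * a) - θ * β ^ q * (θ * a)) • g + (θ * β ^ q) • e with hyU
  have hy1 : u'⁻¹ • W = P + yU := by
    have : u'⁻¹ = J * u⁻¹ * J⁻¹ := by rw [hu'def]; group
    have h1 : J⁻¹ • W = -e + (-(θ * a)) • g + (θ * β ^ q) • f := by
      rw [hW, smul_add, smul_add, smul_comm J⁻¹ (-(θ * a)), smul_comm J⁻¹ (θ * β ^ q), hfdef, hJf,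
        hedef, hJe, hgdef, inv_smul_eq_iff.2 (B.weylJ_gg hF).symm]
    have h2 : u⁻¹ • (-e + (-(θ * a)) • g + (θ * β ^ q) • f) =
        -(e + B.ee s) + (-(θ * a)) • (g + a ^ q • e) + (θ * β ^ q) • W := by
      rw [smul_add, smul_add, smul_neg, smul_comm u⁻¹ (-(θ * a)), smul_comm u⁻¹ (θ * β ^ q), huie,
        huig, hWi]
    rw [this, mul_smul, mul_smul, h1, h2, hW]
    have hJs : ∀ (k : F) (x : Fin (2 * m + 1) → F), J • (k • x) = k • (J • x) :=
      fun k x => smul_comm J k x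
    have hJe' : ∀ j, J • B.ee j = -B.ff j := B.weylJ_ee hF
    have hJf' : ∀ j, J • B.ff j = B.ee j := B.weylJ_ff hF
    have hJg : J • B.gg = B.gg := B.weylJ_gg hF
    simp only [smul_add, smul_neg, hJs, hedef, hfdef, hgdef, hJe', hJf', hJg, neg_neg]
    rw [hyU, hP, hedef, hfdef, hgdef]
    module
  have hβ0 : β ≠ 0 := by rw [hβ]; exact neg_ne_zero.2 (div_ne_zero hζ0 hθ0)
  have hyf : herm q yU f = θ * β ^ q * -θ := by
    rw [hyU, herm_add_left, herm_add_left, herm_smul_left, herm_smul_left, herm_smul_left, hff, hef,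
      hgdef, hfdef, B.h_gf hF]; ring
  have hyf0 : herm q yU f ≠ 0 := by
    rw [hyf]; exact mul_ne_zero (mul_ne_zero hθ0 (mt (pow_q_eq_zero_iff hF).1 hβ0)) (neg_ne_zero.2 hθ0)
  have hyP : herm q yU P = 0 := by
    simp [hyU, hedef, hfdef, hgdef, hP, herm_add_left, herm_smul_left, B.h_ff hF, B.h_gf hF,
      B.h_ef_ne hF (show s + 1 ≠ s by omega)]
  set z : F := ((herm q yU f)⁻¹) ^ q with hz
  obtain ⟨b', hb', -, hmz⟩ := fR z
  have hclear : QQ hF P (z • f) b' • (P + yU) = yU := by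
    have hh : herm q (P + yU) P = 0 := by rw [herm_add_left, hPP, hyP, add_zero]
    have hh' : herm q (P + yU) (z • f) = 1 := by
      rw [herm_smul_right hF, herm_add_left, hPf, zero_add, hz, pow_q_pow_q hF, inv_mul_cancel₀ hyf0]
    rw [QQ_smul hF hPP (hQ0 z) hb', hh, hh']
    module
  have pY1 : Pt hF H (u'⁻¹ • W) := (pt_iff hF (H.inv_mem hu') W).2 pW
  have hY1iso : herm q (P + yU) (P + yU) = 0 := by rw [← hy1, herm_smul_SU, hWW]
  have pyU : Pt hF H yU := by
    rw [← hclear, pt_iff hF hmz, ← hy1]; exact pY1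
  have hyy : herm q yU yU = 0 := by
    rw [← hclear, herm_smul_SU, hY1iso]
  obtain ⟨g2, hg2, ρ, hρ, g2f, g2fix⟩ :=
    pt_swap hF hff hyy (fun h => hyf0 ((herm_eq_zero_comm hF).1 h)) pf pyU
  have g2P : g2 • P = P := g2fix P hPf ((herm_eq_zero_comm hF).1 hyP)
  have YR : yU ∈ radSub hF (H := H) hPP := by
    have := (radSub hF (H := H) hPP).smul_mem ρ⁻¹ (radSub_conj hF hg2 hPP g2P fR)
    rwa [g2f, smul_smul, inv_mul_cancel₀ hρ, one_smul] at this
  set K := radSub hF (H := H) hPP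
  have hκ : θ * β ^ q * (θ * a) ≠ 0 :=
    mul_ne_zero (mul_ne_zero hθ0 (mt (pow_q_eq_zero_iff hF).1 hβ0)) (mul_ne_zero hθ0 ha0)
  have gR : g ∈ K := by
    have h1 : W - yU + (θ * (a * a ^ q) - θ * β ^ q * (θ * β ^ q)) • f =
        (θ * β ^ q * (θ * a)) • g := by
      rw [hW, hyU]; module
    have := K.smul_mem (θ * β ^ q * (θ * a))⁻¹ (K.add_mem (K.sub_mem WR YR)
      (K.smul_mem (θ * (a * a ^ q) - θ * β ^ q * (θ * β ^ q)) fR))
    rwa [h1, smul_smul, inv_mul_cancel₀ hκ, one_smul] at this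
  have eR : e ∈ K := by
    have h1 : W - f + (θ * a) • g = (θ * β ^ q) • e := by rw [hW]; module
    have := K.smul_mem (θ * β ^ q)⁻¹ (K.add_mem (K.sub_mem WR fR) (K.smul_mem (θ * a) gR))
    rwa [h1, smul_smul, inv_mul_cancel₀ (mul_ne_zero hθ0 (mt (pow_q_eq_zero_iff hF).1 hβ0)),
      one_smul] at this
  have hsub : supp (tail m (s + 1)) ≤ K := by
    intro x hx
    obtain ⟨α, σ, hr⟩ := B.split hF (show s + 1 < m by omega) hx
    have hlast := tail_last B (y := x - α • e - σ • f) (by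
      rw [hedef, hfdef]
      exact supp_anti (fun i hi => by simp [tail] at hi ⊢; omega) hr)
    have e' : x = (x - α • e - σ • f) + α • e + σ • f := by abel
    rw [e', hlast]
    exact K.add_mem (K.add_mem (K.smul_mem _ gR) (K.smul_mem _ eR)) (K.smul_mem _ fR)
  -- the descent
  have hx0 : u⁻¹ • W ∈ supp (tail m s) := by
    rw [hW, smul_add, smul_add, smul_comm u⁻¹ (-(θ * a)), smul_comm u⁻¹ (θ * β ^ q), hWi, huig,
      huie, hW]
    have he := B.ee_tail (show s ≤ s + 1 by omega)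
    have hf' := B.ff_tail (show s ≤ s + 1 by omega)
    have hg' : g ∈ supp (tail m s) := B.gg_mem_tail (by omega)
    have hes := B.ee_tail (le_refl s)
    exact add_mem (add_mem (add_mem (add_mem hf' (Submodule.smul_mem _ _ hg'))
        (Submodule.smul_mem _ _ he))
      (Submodule.smul_mem _ _ (add_mem hg' (Submodule.smul_mem _ _ he))))
      (Submodule.smul_mem _ _ (add_mem he hes))
  have hx0h : herm q (u⁻¹ • W) P ≠ 0 := by
    rw [← herm_smul_SU u, smul_inv_smul, hP, hUi s (by omega), herm_add_right hF, ← hP, ← hfdef,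
      (herm_eq_zero_comm hF).1 hPW, zero_add, hWf]
    exact neg_ne_zero.2 (mul_ne_zero hθ0 (mt (pow_q_eq_zero_iff hF).1 hζ0))
  have base := link hF B (show s < m by omega) hpt hsub hx0 ((herm_smul_SU _ _ _).trans hWW)
    ((pt_iff hF (H.inv_mem hu) W).2 pW) hx0h
  have desc : ∀ d, d ≤ s → ∀ x ∈ supp (tail m (s - d)), herm q x x = 0 → Pt hF H x := by
    intro d
    induction d with
    | zero => intro _; rw [Nat.sub_zero]; exact base
    | succ d ih =>
      intro hd
      set k := s - (d + 1)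
      have hk : s - d = k + 1 := by omega
      have IH := ih (by omega)
      rw [hk] at IH
      have pk : Pt hF H (B.ff k) := by
        have := pall (m - 1 - k) (by omega)
        rwa [show m - 1 - (m - 1 - k) = k by omega] at this
      have psum : Pt hF H (B.ff k + B.ff (k + 1)) := by
        rw [← hUi k (by omega)]; exact (pt_iff hF hu _).2 pk
      have hi : u⁻¹ • B.ee (k + 1) = B.ee (k + 1) + B.ee k := by
        rw [inv_smul_eq_iff, hudef, B.reg_ee_add hF (by omega)]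
      refine step hF B (by omega) IH pk psum (x0 := u⁻¹ • B.ee (k + 1)) ?_
        ((herm_smul_SU _ _ _).trans (B.ee_self _))
        ((pt_iff hF (H.inv_mem hu) _).2 (IH _ (B.ee_tail le_rfl) (B.ee_self _))) ?_
      · rw [hi]; exact add_mem (B.ee_tail (Nat.le_succ k)) (B.ee_tail le_rfl)
      · rw [hi, herm_add_left, B.h_ef_ne hF (by omega), B.ef_self hF (by omega), zero_add]
        exact neg_ne_zero.2 hθ0
  refine eq_top hF (by omega) ?_
  have := desc s le_rfl
  rwa [Nat.sub_self] at this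

/-- the statement in dimension at least five -/
theorem main_large (hm : 2 ≤ m) : ∃ a β : F, a ≠ 0 ∧ β + β ^ q = -(a * a ^ q) ∧
    ∃ g h : SU (2 * m + 1) F q, Subgroup.closure ({B.reg hF a β, g * B.reg hF a β * g⁻¹,
      h * B.reg hF a β * h⁻¹} : Set (SU (2 * m + 1) F q)) = ⊤ := by
  classical
  obtain ⟨ζ, hN, hζ, -, hord⟩ := exists_norm_one_gen hF
  have hfix : ((ζ - ζ ^ q) / B.θ) ^ q = (ζ - ζ ^ q) / B.θ := by
    rw [div_pow, sub_pow_q hF, pow_q_pow_q hF, B.theta_q, div_neg, ← neg_div, neg_sub]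
  obtain ⟨a, ha⟩ := exists_norm_eq hF hfix
  rw [pow_succ'] at ha
  have ha0 : a ≠ 0 := fun h => by
    rw [h, zero_mul, eq_comm, div_eq_zero_iff, sub_eq_zero] at ha
    rcases ha with ha | ha
    · exact hζ ha.symm
    · exact B.hθ ha
  have hb : -(ζ / B.θ) + (-(ζ / B.θ)) ^ q = -(a * a ^ q) := by
    rw [neg_pow_q hF, div_pow, B.theta_q, ha]; ring
  refine ⟨a, -(ζ / B.θ), ha0, hb, ?_⟩
  set u := B.reg hF a (-(ζ / B.θ)) with hu
  set J := B.weylJ hF with hJ
  obtain ⟨k, hk⟩ := comm_reg hF B (a := a) (β := -(ζ / B.θ)) (show 1 < m by omega) B.inv_theta_tr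
  refine ⟨J, J * k, ?_⟩
  set H := Subgroup.closure ({u, J * u * J⁻¹, J * k * u * (J * k)⁻¹} : Set (SU (2 * m + 1) F q))
  have h1 : u ∈ H := Subgroup.subset_closure (by simp)
  have h2 : J * u * J⁻¹ ∈ H := Subgroup.subset_closure (by simp)
  have h3 : J * k * u * (J * k)⁻¹ ∈ H := Subgroup.subset_closure (by simp)
  refine large hF B (s := m - 2) (by omega) hN hζ hord ha h1 h2 ?_
  have := H.mul_mem h3 (H.inv_mem h2)
  rwa [show J * k * u * (J * k)⁻¹ * (J * u * J⁻¹)⁻¹ = J * (k * u * k⁻¹ * u⁻¹) * J⁻¹ by group, hu,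
    hk, TT_conj, hJ, B.weylJ_ee hF, TT_neg hF (B.ff_self 0) B.inv_theta_tr] at this

end Cfsg.Agent.SUThreeRegUnip
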