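import Cfsg.Agent.SUThreeRegUnip.Frame

/-!
Growing the set of points all of whose transvections lie in a subgroup.
-/

set_option autoImplicit false

namespace Cfsg.Agent.SUThreeRegUnip

open Matrix Cfsg.Agent.Unitary

variable {F : Type*} [Field F] [Fintype F] {m q : ℕ} (hF : Fintype.card F = q ^ 2)
variable {H : Subgroup (SU (2 * m + 1) F q)} (B : Fr F m q)

theorem tail_card {k : ℕ} (hk : k ≤ m) : (tail m k)ᶜ.card = 2 * (m - k) + 1 := by
  have : tail m k = Finset.univ.filter (fun i : Fin (2 * m + 1) => i.val < 2 * k) := rfl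
  rw [Finset.card_compl, Fintype.card_fin, this, Fin.card_filter_val_lt]
  omega

/-- points with non-zero pairing with `f k` are conjugate to `e k` under the radical at `f k` -/
theorem move_E {k : ℕ} (hk : k < m) (pP : Pt hF H (B.ff k))
    (hS : supp (tail m (k + 1)) ≤ radSub hF (H := H) (B.ff_self k))
    {x : Fin (2 * m + 1) → F} (hx : x ∈ supp (tail m k)) (hxx : herm q x x = 0)
    (hxf : herm q x (B.ff k) ≠ 0) :
    ∃ g ∈ H, ∃ ξ : F, ξ ≠ 0 ∧ g • B.ee k = ξ • x := by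
  obtain ⟨α, σ, hw⟩ := B.split hF hk hx
  set w := x - α • B.ee k - σ • B.ff k with hwdef
  obtain ⟨hwe, hwf⟩ := B.orth_tail hF hw le_rfl
  have hxw : x = α • B.ee k + σ • B.ff k + w := by rw [hwdef]; abel
  have hα : α ≠ 0 := by
    intro h; apply hxf
    rw [hxw, h, herm_add_left, herm_add_left, herm_smul_left, herm_smul_left, hwf, B.ff_self]
    ring
  have hθ' : -B.θ ≠ 0 := neg_ne_zero.2 B.hθ
  obtain ⟨b, hb, hwP, hm⟩ := hS hw ((-B.θ)⁻¹ * α⁻¹)
  set y := QQ hF (B.ff k) (((-B.θ)⁻¹ * α⁻¹) • w) b • B.ee k with hy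
  have hye : y = B.ee k + (α⁻¹ • w + (b * -B.θ) • B.ff k) := by
    rw [hy, QQ_smul hF (B.ff_self k) hwP hb, B.ef_self hF hk, herm_smul_right hF,
      (herm_eq_zero_comm hF).1 hwe, mul_zero, zero_smul, sub_zero, smul_smul,
      mul_inv_cancel_left₀ hθ']
  have hyy : herm q y y = 0 := (herm_smul_SU _ _ _).trans (B.ee_self k)
  have hyf : herm q y (B.ff k) = -B.θ := by
    rw [hye, herm_add_left, herm_add_left, herm_smul_left, herm_smul_left, hwf, B.ff_self,
      B.ef_self hF hk]; ring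
  set τ := α⁻¹ * σ - b * -B.θ
  have hz : α⁻¹ • x = y + τ • B.ff k := by
    rw [hye, hxw, smul_add, smul_add, smul_smul, smul_smul, inv_mul_cancel₀ hα, one_smul]
    module
  have hzz : herm q (y + τ • B.ff k) (y + τ • B.ff k) = 0 := by
    rw [← hz, herm_smul_left, herm_smul_right hF, hxx]; ring
  have hτ : τ / -B.θ + (τ / -B.θ) ^ q = 0 := by
    rw [herm_add_left, herm_add_right hF, herm_add_right hF, herm_smul_left, herm_smul_left,
      herm_smul_right hF, herm_smul_right hF, hyy, hyf, B.ff_self, herm_swap hF y (B.ff k), hyf,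
      neg_pow_q hF, B.theta_q] at hzz
    have hτ' : τ ^ q = τ := mul_right_cancel₀ B.hθ (by linear_combination -hzz)
    rw [div_pow, hτ', neg_pow_q hF, B.theta_q, neg_neg, div_neg, neg_add_cancel]
  refine ⟨TT hF (B.ff k) (τ / -B.θ) * QQ hF (B.ff k) (((-B.θ)⁻¹ * α⁻¹) • w) b,
    H.mul_mem (pP _ hτ) hm, α⁻¹, inv_ne_zero hα, ?_⟩
  rw [mul_smul, ← hy, TT_smul hF (B.ff_self k) hτ, hyf, div_mul_cancel₀ _ hθ', hz]

theorem link {k : ℕ} (hk : k < m) (pP : Pt hF H (B.ff k))
    (hS : supp (tail m (k + 1)) ≤ radSub hF (H := H) (B.ff_self k))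
    {x0 : Fin (2 * m + 1) → F} (hx0 : x0 ∈ supp (tail m k)) (hx00 : herm q x0 x0 = 0)
    (p0 : Pt hF H x0) (h0 : herm q x0 (B.ff k) ≠ 0) :
    ∀ x ∈ supp (tail m k), herm q x x = 0 → Pt hF H x := by
  have key : ∀ x ∈ supp (tail m k), herm q x x = 0 → herm q x (B.ff k) ≠ 0 →
      (Pt hF H x ↔ Pt hF H (B.ee k)) := by
    intro x hx hxx hxf
    obtain ⟨g, hg, ξ, hξ, e⟩ := move_E hF B hk pP hS hx hxx hxf
    exact (pt_scale hF hxx hξ).symm.trans (by rw [← e, pt_iff hF hg])
  have pE : Pt hF H (B.ee k) := (key x0 hx0 hx00 h0).1 p0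
  have main : ∀ x ∈ supp (tail m k), herm q x x = 0 → herm q x (B.ff k) ≠ 0 → Pt hF H x :=
    fun x hx hxx hxf => (key x hx hxx hxf).2 pE
  have hfe : herm q (B.ff k) (B.ee k) ≠ 0 := by rw [B.fe_self k hk]; exact B.hθ
  have hef : herm q (B.ee k) (B.ff k) ≠ 0 := by rw [B.ef_self hF hk]; exact neg_ne_zero.2 B.hθ
  obtain ⟨g, hg, ρ, hρ, gf, gfix⟩ := pt_swap hF (B.ff_self k) (B.ee_self k) hfe pP pE
  intro x hx hxx
  by_cases hxf : herm q x (B.ff k) ≠ 0
  · exact main x hx hxx hxf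
  rw [not_not] at hxf
  obtain ⟨α, σ, hw⟩ := B.split hF hk hx
  set w := x - α • B.ee k - σ • B.ff k with hwdef
  obtain ⟨hwe, hwf⟩ := B.orth_tail hF hw le_rfl
  have hxw : x = α • B.ee k + σ • B.ff k + w := by rw [hwdef]; abel
  have hα : α = 0 := by
    rw [hxw, herm_add_left, herm_add_left, herm_smul_left, herm_smul_left, hwf, B.ff_self,
      B.ef_self hF hk] at hxf
    simpa [B.hθ] using hxf
  rw [hα, zero_smul, zero_add] at hxw
  have hgsupp : ∀ y : Fin (2 * m + 1) → F, y ∈ supp (tail m k) → g • y ∈ supp (tail m k) := by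
    intro y hy
    obtain ⟨α', σ', hw'⟩ := B.split hF hk hy
    set w' := y - α' • B.ee k - σ' • B.ff k
    obtain ⟨e1, e2⟩ := B.orth_tail hF hw' le_rfl
    intro i hi
    have hi' : herm q (eI i) (B.ff k) = 0 ∧ herm q (eI i) (B.ee k) = 0 := by
      simp only [herm_eI_left]
      have hm' : i ∈ pairC m k := by simp [tail, pairC] at hi ⊢; omega
      rw [B.ff_pair k i hm', B.ee_pair k i hm', zero_pow_q hF]; exact ⟨rfl, rfl⟩
    rw [← herm_eI_right hF i (g • y), ← gfix _ hi'.1 hi'.2, herm_smul_SU, herm_eI_right hF]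
    exact hy i hi
  by_cases hσ : σ = 0
  · rw [hσ, zero_smul, zero_add] at hxw
    have hxS : x ∈ supp (tail m (k + 1)) := by rw [hxw]; exact hw
    by_cases hw0 : x = 0
    · rw [hw0]; exact pt_zero hF
    obtain ⟨j, hj⟩ := Function.ne_iff.1 hw0
    have hjS : j ∉ tail m (k + 1) := fun h => hj (hxS j h)
    have hjS' : (eI j : Fin (2 * m + 1) → F) ∈ supp (tail m (k + 1)) := eI_mem_supp hjS
    obtain ⟨b, hb, hjP, hm⟩ := hS hjS' 1
    rw [one_smul] at hb hjP hm
    obtain ⟨hje, hjf⟩ := B.orth_tail hF hjS' le_rfl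
    obtain ⟨hxe, hxf'⟩ := B.orth_tail hF hxS le_rfl
    set Q := g * QQ hF (B.ff k) (eI j) b * g⁻¹ with hQ
    have hQm : Q ∈ H := conj_mem hg hm
    have hQx : Q • x = x + (-(x j)) • (ρ • B.ee k) := by
      rw [hQ, QQ_conj, gf, gfix _ hjf hje, QQ_smul hF (by
        rw [herm_smul_left, herm_smul_right hF, B.ee_self]; ring)
        (by rw [herm_smul_right hF, hje, mul_zero]) hb, herm_smul_right hF, hxe,
        herm_eI_right hF]
      module
    refine (pt_iff hF hQm x).1 (main _ ?_ ((herm_smul_SU _ _ _).trans hxx) ?_)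
    · rw [hQx]
      exact add_mem hx (Submodule.smul_mem _ _ (Submodule.smul_mem _ _ (B.ee_tail le_rfl)))
    · rw [hQx, herm_add_left, herm_smul_left, herm_smul_left, hxf', zero_add]
      exact mul_ne_zero (neg_ne_zero.2 hj) (mul_ne_zero hρ hef)
  · refine (pt_iff hF hg x).1 (main _ (hgsupp x hx) ((herm_smul_SU _ _ _).trans hxx) ?_)
    rw [hxw, smul_add, smul_comm g σ, gf, gfix w hwf hwe, herm_add_left, herm_smul_left,
      herm_smul_left, hwf, add_zero]
    exact mul_ne_zero hσ (mul_ne_zero hρ hef)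

theorem tvGroup_le {S : Finset (Fin (2 * m + 1))}
    (h : ∀ x ∈ supp S, herm q x x = 0 → Pt hF H x) : tvGroup hF S ≤ H := by
  rw [tvGroup, Subgroup.closure_le]
  rintro _ ⟨u, c, hu, hc, huS, rfl⟩
  have := h u huS hu c hc
  rwa [TT, dif_pos ⟨hu, hc⟩] at this

/-- one step from the tail after `k+1` to the tail after `k` -/
theorem step {k : ℕ} (hk : k + 1 < m)
    (IH : ∀ x ∈ supp (tail m (k + 1)), herm q x x = 0 → Pt hF H x)
    (pf : Pt hF H (B.ff k)) (ps : Pt hF H (B.ff k + B.ff (k + 1)))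
    {x0 : Fin (2 * m + 1) → F} (hx0 : x0 ∈ supp (tail m k)) (hx00 : herm q x0 x0 = 0)
    (p0 : Pt hF H x0) (h0 : herm q x0 (B.ff k) ≠ 0) :
    ∀ x ∈ supp (tail m k), herm q x x = 0 → Pt hF H x := by
  refine link hF B (by omega) pf (fun v hv => ?_) hx0 hx00 p0 h0
  have h3 : 3 ≤ (tail m (k + 1))ᶜ.card := by rw [tail_card (by omega)]; omega
  have hT := tvGroup_le hF IH
  have hiso : ∀ y ∈ supp (tail m (k + 1)), herm q y y = 0 →
      y ∈ radSub hF (H := H) (B.ff_self k) := by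
    intro y hy hyy
    have hfy : herm q (B.ff k) y = 0 := (herm_eq_zero_comm hF).1 (B.orth_tail hF hy le_rfl).2
    refine mem_radSub_of_pt hF _ hyy hfy pf (IH y hy hyy) fun z hz => ?_
    by_cases hy0 : y = 0
    · rw [hy0, smul_zero, add_zero]; exact pf
    have hf1 : B.ff (k + 1) ≠ 0 := fun e => by
      have := B.fe_self (k + 1) hk
      rw [e, herm_zero_left] at this
      exact B.hθ this.symm
    obtain ⟨t, ht, e⟩ := exists_move hF h3 (B.ff_tail le_rfl) (Submodule.smul_mem _ z hy)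
      (B.ff_self (k + 1)) (by rw [herm_smul_left, herm_smul_right hF, hyy]; ring) hf1
      (smul_ne_zero hz hy0)
    have hfix : t • B.ff k = B.ff k := by
      rw [eq_sum_eI (B.ff k), Finset.smul_sum]
      refine Finset.sum_congr rfl fun i _ => ?_
      by_cases hi : i ∈ tail m (k + 1)
      · rw [smul_comm, mem_fixS.1 (tvGroup_le_fixS hF ht) i hi]
      · rw [B.ff_pair k i (by simp [tail, pairC] at hi ⊢; omega), zero_smul, smul_zero]
    have := (pt_iff hF (hT ht) _).2 ps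
    rwa [smul_add, hfix, e] at this
  have hc := exists_sum_isotropic hF (S := tail m (k + 1)) (by omega) hv
  clear hv
  induction hc using AddSubmonoid.closure_induction with
  | mem y hy => exact hiso y hy.1 hy.2
  | zero => exact zero_mem _
  | add a b _ _ ha hb => exact add_mem ha hb

/-- the end -/
theorem eq_top (h32 : ¬ (2 * m + 1 = 3 ∧ q = 2))
    (h : ∀ x ∈ supp (tail m 0), herm q x x = 0 → Pt hF H x) : H = ⊤ := by
  rw [eq_top_iff, ← tvGroup_empty hF h32]
  refine (tvGroup_le hF fun x _ hxx => h x (fun i hi => ?_) hxx)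
  simp [tail] at hi

end Cfsg.Agent.SUThreeRegUnip
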