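import Cfsg.Agent.Lib.Unitary.Generation

/-!
Total versions of unitary transvections and unipotent radical elements.
-/

set_option autoImplicit false

namespace Cfsg.Agent.SUThreeRegUnip

open Matrix Cfsg.Agent.Unitary

variable {F : Type*} [Field F] [Fintype F] {n q : ℕ} (hF : Fintype.card F = q ^ 2)

open Classical in
/-- `x ↦ x + c h(x,v) v`, or `1` when this is not unitary -/
noncomputable def TT (v : Fin n → F) (c : F) : SU n F q :=
  if h : herm q v v = 0 ∧ c + c ^ q = 0 then tv hF h.1 h.2 else 1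

open Classical in
/-- `x ↦ x + h(x,u) w - h(x,w) u + b h(x,u) u`, or `1` -/
noncomputable def QQ (u w : Fin n → F) (b : F) : SU n F q :=
  if h : herm q u u = 0 ∧ herm q w u = 0 ∧ b + b ^ q = -herm q w w then Qel hF h.1 h.2.1 h.2.2 else 1

theorem TT_smul {v : Fin n → F} {c : F} (hv : herm q v v = 0) (hc : c + c ^ q = 0) (x : Fin n → F) :
    TT hF v c • x = x + (c * herm q x v) • v := by
  rw [TT, dif_pos ⟨hv, hc⟩, tv_smul]

theorem TT_fix {v : Fin n → F} (c : F) {x : Fin n → F} (h : herm q x v = 0) :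
    TT hF v c • x = x := by
  unfold TT
  split_ifs with h'
  · rw [tv_smul, h, mul_zero, zero_smul, add_zero]
  · exact one_smul _ _

theorem QQ_smul {u w : Fin n → F} {b : F} (hu : herm q u u = 0) (hwu : herm q w u = 0)
    (hb : b + b ^ q = -herm q w w) (x : Fin n → F) :
    QQ hF u w b • x = x + (herm q x u • w - herm q x w • u + (b * herm q x u) • u) := by
  rw [QQ, dif_pos ⟨hu, hwu, hb⟩, Qel_smul]

theorem QQ_fix {u w : Fin n → F} (b : F) {x : Fin n → F} (h : herm q x u = 0)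
    (h' : herm q x w = 0) : QQ hF u w b • x = x := by
  unfold QQ
  split_ifs with hh
  · rw [Qel_smul, h, h']; simp
  · exact one_smul _ _

theorem smul_inj (g : SU n F q) {x y : Fin n → F} (h : g • x = g • y) : x = y := by
  have := congrArg (fun z => g⁻¹ • z) h
  simpa using this

theorem TT_conj (g : SU n F q) (v : Fin n → F) (c : F) :
    g * TT hF v c * g⁻¹ = TT hF (g • v) c := by
  unfold TT
  by_cases h : herm q v v = 0 ∧ c + c ^ q = 0
  · rw [dif_pos h, dif_pos ⟨(herm_smul_SU g v v).trans h.1, h.2⟩]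
    exact conj_tv hF g h.1 h.2
  · rw [dif_neg h, dif_neg fun h' => h ⟨(herm_smul_SU g v v).symm.trans h'.1, h'.2⟩, mul_one,
      mul_inv_cancel]

theorem QQ_conj (g : SU n F q) (u w : Fin n → F) (b : F) :
    g * QQ hF u w b * g⁻¹ = QQ hF (g • u) (g • w) b := by
  unfold QQ
  by_cases h : herm q u u = 0 ∧ herm q w u = 0 ∧ b + b ^ q = -herm q w w
  · rw [dif_pos h, dif_pos ⟨(herm_smul_SU g u u).trans h.1, (herm_smul_SU g w u).trans h.2.1,
      h.2.2.trans (congrArg Neg.neg (herm_smul_SU g w w).symm)⟩]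
    refine eq_of_smul_eq_SU fun x => ?_
    rw [mul_smul, mul_smul, Qel_smul, Qel_smul, ← herm_smul_SU g (g⁻¹ • x) u,
      ← herm_smul_SU g (g⁻¹ • x) w, smul_inv_smul]
    simp only [smul_add, smul_sub, smul_comm g, smul_inv_smul]
  · rw [dif_neg h, dif_neg fun h' => h ⟨(herm_smul_SU g u u).symm.trans h'.1,
      (herm_smul_SU g w u).symm.trans h'.2.1,
      h'.2.2.trans (congrArg Neg.neg (herm_smul_SU g w w))⟩, mul_one, mul_inv_cancel]

include hF in
theorem neg_tr {c : F} (hc : c + c ^ q = 0) : -c + (-c) ^ q = 0 := by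
  rw [neg_pow_q hF]; linear_combination -hc

include hF in
theorem add_tr {c d : F} (hc : c + c ^ q = 0) (hd : d + d ^ q = 0) :
    c + d + (c + d) ^ q = 0 := by
  rw [add_pow_q hF]; linear_combination hc + hd

include hF in
theorem sub_pow_tr (z : F) : z - z ^ q + (z - z ^ q) ^ q = 0 := by
  rw [sub_pow_q hF, pow_q_pow_q hF]; ring

include hF in
theorem fixed_mul_tr {r c : F} (hr : r ^ q = r) (hc : c + c ^ q = 0) : r * c + (r * c) ^ q = 0 := by
  rw [mul_pow, hr]; linear_combination r * hc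

theorem TT_mul {v : Fin n → F} (hv : herm q v v = 0) {c d : F} (hc : c + c ^ q = 0)
    (hd : d + d ^ q = 0) : TT hF v c * TT hF v d = TT hF v (c + d) := by
  refine eq_of_smul_eq_SU fun x => ?_
  rw [mul_smul, TT_smul hF hv hd, TT_smul hF hv hc, TT_smul hF hv (add_tr hF hc hd), herm_add_left,
    herm_smul_left, hv]
  module

@[simp] theorem TT_zero (v : Fin n → F) : TT hF v 0 = 1 := by
  refine eq_of_smul_eq_SU fun x => ?_
  by_cases hv : herm q v v = 0
  · rw [TT_smul hF hv (by rw [zero_pow_q hF, add_zero])]; simp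
  · rw [TT, dif_neg (fun h => hv h.1)]

theorem TT_zero_vec (c : F) : TT hF (0 : Fin n → F) c = 1 := by
  refine eq_of_smul_eq_SU fun x => ?_
  rw [TT_fix hF c (herm_zero_right hF x), one_smul]

theorem TT_inv {v : Fin n → F} (hv : herm q v v = 0) {c : F} (hc : c + c ^ q = 0) :
    (TT hF v c)⁻¹ = TT hF v (-c) :=
  inv_eq_of_mul_eq_one_right (by rw [TT_mul hF hv hc (neg_tr hF hc), add_neg_cancel, TT_zero])

theorem TT_scale {v : Fin n → F} (hv : herm q v v = 0) (a : F) {c : F} (hc : c + c ^ q = 0) :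
    TT hF (a • v) c = TT hF v (a * a ^ q * c) := by
  have h1 : herm q (a • v) (a • v) = 0 := by
    rw [herm_smul_left, herm_smul_right hF, hv, mul_zero, mul_zero]
  have h2 : a * a ^ q * c + (a * a ^ q * c) ^ q = 0 :=
    fixed_mul_tr hF (by rw [mul_pow, pow_q_pow_q hF, mul_comm]) hc
  refine eq_of_smul_eq_SU fun x => ?_
  rw [TT_smul hF h1 hc, TT_smul hF hv h2, herm_smul_right hF]
  module

include hF in
theorem QQ_cond_add {w1 w2 : Fin n → F} {b1 b2 : F} (h1 : b1 + b1 ^ q = -herm q w1 w1)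
    (h2 : b2 + b2 ^ q = -herm q w2 w2) :
    (b1 + b2 - herm q w2 w1) + (b1 + b2 - herm q w2 w1) ^ q = -herm q (w1 + w2) (w1 + w2) :=
  Qel_add_cond hF h1 h2

theorem QQ_mul {u w1 w2 : Fin n → F} {b1 b2 : F} (hu : herm q u u = 0) (h1u : herm q w1 u = 0)
    (h1 : b1 + b1 ^ q = -herm q w1 w1) (h2u : herm q w2 u = 0)
    (h2 : b2 + b2 ^ q = -herm q w2 w2) :
    QQ hF u w1 b1 * QQ hF u w2 b2 = QQ hF u (w1 + w2) (b1 + b2 - herm q w2 w1) := by
  unfold QQ
  rw [dif_pos ⟨hu, h1u, h1⟩, dif_pos ⟨hu, h2u, h2⟩,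
    dif_pos ⟨hu, by rw [herm_add_left, h1u, h2u, add_zero], QQ_cond_add hF h1 h2⟩]
  exact Qel_mul_Qel hF hu h1u h1 h2u h2 _

theorem QQ_eq_TT (u : Fin n → F) (c : F) : QQ hF u (0 : Fin n → F) c = TT hF u c := by
  unfold QQ TT
  by_cases h : herm q u u = 0 ∧ c + c ^ q = 0
  · rw [dif_pos h, dif_pos ⟨h.1, herm_zero_left u, h.2.trans (by rw [herm_zero_left, neg_zero])⟩]
    rfl
  · rw [dif_neg h, dif_neg fun h' => h ⟨h'.1, h'.2.2.trans (by rw [herm_zero_left, neg_zero])⟩]

theorem QQ_zero (u : Fin n → F) : QQ hF u (0 : Fin n → F) 0 = 1 := by rw [QQ_eq_TT, TT_zero]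

theorem QQ_inv {u w : Fin n → F} {b : F} (hu : herm q u u = 0) (hwu : herm q w u = 0)
    (hb : b + b ^ q = -herm q w w) :
    (QQ hF u w b)⁻¹ = QQ hF u (-w) (-b - herm q w w) := by
  refine inv_eq_of_mul_eq_one_right ?_
  rw [QQ_mul hF hu hwu hb (Qel_inv_cond hF hwu hb).1 (Qel_inv_cond hF hwu hb).2, add_neg_cancel,
    herm_neg_left, show b + (-b - herm q w w) - -herm q w w = 0 by ring, QQ_zero]

theorem QQ_shift {u w : Fin n → F} {b : F} (hu : herm q u u = 0) (hwu : herm q w u = 0)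
    (hb : b + b ^ q = -herm q w w) (σ : F) :
    QQ hF u (w + σ • u) b = QQ hF u w (b + σ - σ ^ q) := by
  have huw : herm q u w = 0 := (herm_eq_zero_comm hF).1 hwu
  have h2 : herm q (w + σ • u) u = 0 := by rw [herm_add_left, herm_smul_left, hu, hwu]; ring
  have h3 : b + b ^ q = -herm q (w + σ • u) (w + σ • u) := by
    simp only [herm_add_left, herm_add_right hF, herm_smul_left, herm_smul_right hF, hu, hwu, huw]
    linear_combination hb
  have h4 : b + σ - σ ^ q + (b + σ - σ ^ q) ^ q = -herm q w w := by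
    rw [sub_pow_q hF, add_pow_q hF, pow_q_pow_q hF]
    linear_combination hb
  refine eq_of_smul_eq_SU fun x => ?_
  rw [QQ_smul hF hu h2 h3, QQ_smul hF hu hwu h4, herm_add_right hF, herm_smul_right hF]
  module

theorem QQ_scale {u w : Fin n → F} {b : F} (hu : herm q u u = 0) (hwu : herm q w u = 0)
    (hb : b + b ^ q = -herm q w w) (a : F) :
    QQ hF (a • u) w b = QQ hF u (a ^ q • w) (a * a ^ q * b) := by
  have h1 : herm q (a • u) (a • u) = 0 := by
    rw [herm_smul_left, herm_smul_right hF, hu, mul_zero, mul_zero]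
  have h2 : herm q w (a • u) = 0 := by rw [herm_smul_right hF, hwu, mul_zero]
  have h3 : herm q (a ^ q • w) u = 0 := by rw [herm_smul_left, hwu, mul_zero]
  have h4 : a * a ^ q * b + (a * a ^ q * b) ^ q = -herm q (a ^ q • w) (a ^ q • w) := by
    rw [herm_smul_left, herm_smul_right hF, mul_pow, mul_pow, pow_q_pow_q hF]
    linear_combination a * a ^ q * hb
  refine eq_of_smul_eq_SU fun x => ?_
  rw [QQ_smul hF h1 h2 hb, QQ_smul hF hu h3 h4, herm_smul_right hF, herm_smul_right hF,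
    pow_q_pow_q hF]
  module

/-- a short root element from three transvections -/
theorem three_TT {u v : Fin n → F} (hu : herm q u u = 0) (hv : herm q v v = 0)
    (huv : herm q u v = 0) {c : F} (hc : c + c ^ q = 0) :
    TT hF (u + v) c * TT hF u (-c) * TT hF v (-c) = QQ hF u (c • v) 0 := by
  have hvu : herm q v u = 0 := (herm_eq_zero_comm hF).1 huv
  have h1 : herm q (u + v) (u + v) = 0 := by
    simp [herm_add_left, herm_add_right hF, hu, hv, huv, hvu]
  have h2 : herm q (c • v) u = 0 := by rw [herm_smul_left, hvu, mul_zero]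
  have h3 : (0 : F) + 0 ^ q = -herm q (c • v) (c • v) := by
    rw [herm_smul_left, herm_smul_right hF, hv, zero_pow_q hF]; ring
  refine eq_of_smul_eq_SU fun x => ?_
  simp only [mul_smul, TT_smul hF h1 hc, TT_smul hF hu (neg_tr hF hc), TT_smul hF hv (neg_tr hF hc),
    QQ_smul hF hu h2 h3, herm_add_left, herm_smul_left, herm_add_right hF, herm_smul_right hF, hu,
    hv, huv, hvu, eq_neg_of_add_eq_zero_right hc]
  module

theorem QQ_comm {u w1 w2 : Fin n → F} {b1 b2 : F} (hu : herm q u u = 0) (h1u : herm q w1 u = 0)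
    (h1 : b1 + b1 ^ q = -herm q w1 w1) (h2u : herm q w2 u = 0)
    (h2 : b2 + b2 ^ q = -herm q w2 w2) :
    QQ hF u w1 b1 * QQ hF u w2 b2 =
      QQ hF u w2 b2 * QQ hF u w1 b1 * TT hF u (herm q w1 w2 - herm q w2 w1) := by
  have ht : (herm q w1 w2 - herm q w2 w1) + (herm q w1 w2 - herm q w2 w1) ^ q = 0 := by
    rw [herm_swap hF w1 w2]; exact sub_pow_tr hF _
  rw [QQ_mul hF hu h1u h1 h2u h2, QQ_mul hF hu h2u h2 h1u h1, ← QQ_eq_TT,
    QQ_mul hF hu (by rw [herm_add_left, h1u, h2u, add_zero]) (QQ_cond_add hF h2 h1)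
      (herm_zero_left u) (by rw [ht, herm_zero_left, neg_zero])]
  congr 1
  · rw [add_zero, add_comm]
  · rw [herm_zero_left]; ring

/-! ### points and radicals of a subgroup -/

variable (H : Subgroup (SU n F q))

/-- all transvections at `v` lie in `H` -/
def Pt (v : Fin n → F) : Prop := ∀ c : F, c + c ^ q = 0 → TT hF v c ∈ H

/-- radical parameters at `P` -/
def Rad (P : Fin n → F) : Set (Fin n → F) :=
  {w | ∃ b : F, b + b ^ q = -herm q w w ∧ herm q w P = 0 ∧ QQ hF P w b ∈ H}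

variable {H}

theorem conj_mem {g x : SU n F q} (hg : g ∈ H) (hx : x ∈ H) : g * x * g⁻¹ ∈ H :=
  H.mul_mem (H.mul_mem hg hx) (H.inv_mem hg)

theorem conj_mem_iff {g x : SU n F q} (hg : g ∈ H) : g * x * g⁻¹ ∈ H ↔ x ∈ H :=
  ⟨fun h => by
    have := conj_mem (H.inv_mem hg) h
    rwa [inv_inv, ← mul_assoc, ← mul_assoc, inv_mul_cancel, one_mul, inv_mul_cancel_right] at this,
   conj_mem hg⟩

theorem TT_mem_iff {g : SU n F q} (hg : g ∈ H) (v : Fin n → F) (c : F) :
    TT hF (g • v) c ∈ H ↔ TT hF v c ∈ H := by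
  rw [← TT_conj, conj_mem_iff hg]

theorem pt_iff {g : SU n F q} (hg : g ∈ H) (v : Fin n → F) : Pt hF H (g • v) ↔ Pt hF H v :=
  forall₂_congr fun c _ => TT_mem_iff hF hg v c

theorem pt_scale {v : Fin n → F} (hv : herm q v v = 0) {a : F} (ha : a ≠ 0) :
    Pt hF H (a • v) ↔ Pt hF H v := by
  have hN : (a * a ^ q) ^ q = a * a ^ q := by rw [mul_pow, pow_q_pow_q hF, mul_comm]
  have hN0 : a * a ^ q ≠ 0 := mul_ne_zero ha (mt (pow_q_eq_zero_iff hF).1 ha)
  constructor
  · intro h c hc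
    have := h ((a * a ^ q)⁻¹ * c) (fixed_mul_tr hF (by rw [inv_pow, hN]) hc)
    rwa [TT_scale hF hv a (fixed_mul_tr hF (by rw [inv_pow, hN]) hc), mul_inv_cancel_left₀ hN0] at this
  · intro h c hc
    rw [TT_scale hF hv a hc]
    exact h _ (fixed_mul_tr hF hN hc)

theorem pt_zero : Pt hF H (0 : Fin n → F) := fun c _ => by rw [TT_zero_vec]; exact H.one_mem

/-- a move from `a` to a multiple of `v` by two transvections -/
theorem two_step {a v : Fin n → F} (ha : herm q a a = 0) (hv : herm q v v = 0) {s r : F}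
    (hs : s + s ^ q = 0) (hr : r + r ^ q = 0)
    (h : 1 + s * r * (herm q a v * herm q v a) = 0) :
    (TT hF a s * TT hF v r) • a = (r * herm q a v) • v ∧
      ∀ x, herm q x a = 0 → herm q x v = 0 → (TT hF a s * TT hF v r) • x = x := by
  refine ⟨?_, fun x hxa hxv => by rw [mul_smul, TT_fix hF r hxv, TT_fix hF s hxa]⟩
  rw [mul_smul, TT_smul hF hv hr, TT_smul hF ha hs, herm_add_left, herm_smul_left, ha, zero_add]
  have e : s * (r * herm q a v * herm q v a) = -1 := by linear_combination h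
  rw [e]
  module

theorem pt_swap {a v : Fin n → F} (ha : herm q a a = 0) (hv : herm q v v = 0)
    (hav : herm q a v ≠ 0) (pa : Pt hF H a) (pv : Pt hF H v) :
    ∃ g ∈ H, ∃ ρ : F, ρ ≠ 0 ∧ g • a = ρ • v ∧
      ∀ x, herm q x a = 0 → herm q x v = 0 → g • x = x := by
  obtain ⟨r, hr0, hr⟩ := exists_trace_zero_ne_zero hF
  set N := herm q a v * herm q v a with hN
  have hN0 : N ≠ 0 := mul_ne_zero hav (fun h => hav ((herm_eq_zero_comm hF).1 h))
  have hNq : N ^ q = N := by
    rw [hN, mul_pow, ← herm_swap hF a v, ← herm_swap hF v a, mul_comm]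
  set s := -(r * N)⁻¹ with hs'
  have hs : s + s ^ q = 0 := by
    rw [hs', neg_pow_q hF, inv_pow, mul_pow, hNq, eq_neg_of_add_eq_zero_right hr, neg_mul, inv_neg,
      neg_neg, neg_add_cancel]
  obtain ⟨h1, h2⟩ := two_step hF ha hv hs hr (by rw [hs', ← hN]; field_simp; ring)
  exact ⟨_, H.mul_mem (pa s hs) (pv r hr), _, mul_ne_zero hr0 hav, h1, h2⟩

theorem rad_zero (P : Fin n → F) : (0 : Fin n → F) ∈ Rad hF H P :=
  ⟨0, by simp [zero_pow_q hF], herm_zero_left P, by rw [QQ_zero]; exact H.one_mem⟩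

theorem rad_add {P : Fin n → F} (hP : herm q P P = 0) {w1 w2 : Fin n → F}
    (h1 : w1 ∈ Rad hF H P) (h2 : w2 ∈ Rad hF H P) : w1 + w2 ∈ Rad hF H P := by
  obtain ⟨b1, e1, o1, m1⟩ := h1
  obtain ⟨b2, e2, o2, m2⟩ := h2
  refine ⟨_, QQ_cond_add hF e1 e2, by rw [herm_add_left, o1, o2, add_zero], ?_⟩
  rw [← QQ_mul hF hP o1 e1 o2 e2]
  exact H.mul_mem m1 m2

theorem rad_conj {g : SU n F q} (hg : g ∈ H) {P w : Fin n → F} (h : w ∈ Rad hF H P) :
    g • w ∈ Rad hF H (g • P) := by
  obtain ⟨b, e, o, m⟩ := h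
  exact ⟨b, by rwa [herm_smul_SU], by rwa [herm_smul_SU], by rw [← QQ_conj]; exact conj_mem hg m⟩

theorem rad_scale {P w : Fin n → F} (hP : herm q P P = 0) {a : F} (h : w ∈ Rad hF H (a • P))
    (ha : a ≠ 0) : a ^ q • w ∈ Rad hF H P := by
  obtain ⟨b, e, o, m⟩ := h
  have o' : herm q w P = 0 := by
    rw [herm_smul_right hF] at o
    exact (mul_eq_zero.1 o).resolve_left (mt (pow_q_eq_zero_iff hF).1 ha)
  refine ⟨a * a ^ q * b, ?_, by rw [herm_smul_left, o', mul_zero],
    by rw [← QQ_scale hF hP o' e]; exact m⟩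
  rw [herm_smul_left, herm_smul_right hF, mul_pow, mul_pow, pow_q_pow_q hF]
  linear_combination a * a ^ q * e

/-- vectors all of whose multiples are radical parameters at `P` -/
def radSub {P : Fin n → F} (hP : herm q P P = 0) : Submodule F (Fin n → F) where
  carrier := {v | ∀ z : F, z • v ∈ Rad hF H P}
  add_mem' ha hb z := by rw [smul_add]; exact rad_add hF hP (ha z) (hb z)
  zero_mem' z := by rw [smul_zero]; exact rad_zero hF P
  smul_mem' a v hv z := by rw [smul_smul]; exact hv _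

theorem mem_radSub {P : Fin n → F} (hP : herm q P P = 0) {v : Fin n → F} :
    v ∈ radSub hF (H := H) hP ↔ ∀ z : F, z • v ∈ Rad hF H P := Iff.rfl

theorem radSub_conj {g : SU n F q} (hg : g ∈ H) {P v : Fin n → F} (hP : herm q P P = 0)
    (hgP : g • P = P) (h : v ∈ radSub hF (H := H) hP) : g • v ∈ radSub hF (H := H) hP := by
  intro z
  have := rad_conj hF hg (h z)
  rwa [hgP, smul_comm] at this

theorem mem_radSub_of_pt {P v : Fin n → F} (hP : herm q P P = 0) (hv : herm q v v = 0)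
    (hPv : herm q P v = 0) (pP : Pt hF H P) (pv : Pt hF H v)
    (ps : ∀ z : F, z ≠ 0 → Pt hF H (P + z • v)) : v ∈ radSub hF (H := H) hP := by
  intro z
  by_cases hz : z = 0
  · rw [hz, zero_smul]; exact rad_zero hF P
  obtain ⟨c, hc0, hc⟩ := exists_trace_zero_ne_zero hF
  have hz' : c⁻¹ * z ≠ 0 := mul_ne_zero (inv_ne_zero hc0) hz
  have hv' : herm q ((c⁻¹ * z) • v) ((c⁻¹ * z) • v) = 0 := by
    rw [herm_smul_left, herm_smul_right hF, hv, mul_zero, mul_zero]
  have h := three_TT hF hP hv' (by rw [herm_smul_right hF, hPv, mul_zero]) hc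
  have hmem := H.mul_mem (H.mul_mem (ps _ hz' c hc) (pP _ (neg_tr hF hc)))
    ((pt_scale hF hv hz').2 pv _ (neg_tr hF hc))
  rw [h, smul_smul, mul_inv_cancel_left₀ hc0] at hmem
  refine ⟨0, ?_, ?_, hmem⟩
  · rw [herm_smul_left, herm_smul_right hF, hv, zero_pow_q hF]; ring
  · rw [herm_smul_left, (herm_eq_zero_comm hF).1 hPv, mul_zero]

end Cfsg.Agent.SUThreeRegUnip
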